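import Cfsg.Agent.H670.TIx.Loc96

/-!
# Local counts at the prime five: from the action on `P = 5²` to `D48` (helper670, S4819 / S4820, piece (D))
-/

set_option autoImplicit false

namespace Cfsg.Agent.H670.TIx

open Subgroup

universe u v

/-- the data : `M = N(P)` -/
structure Base {M : Type u} [Group M] (P : Subgroup M) : Prop where
  nor : P.Normal
  card : Nat.card P = 25
  comm : ∀ a ∈ P, ∀ b ∈ P, a * b = b * a
  exp : ∀ a ∈ P, a ^ 5 = 1
  trans : ∀ a ∈ P, a ≠ 1 → ∀ b ∈ P, b ≠ 1 → ∃ g : M, g * a * g⁻¹ = b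
  c50 : ∀ a ∈ P, a ≠ 1 → Nat.card (centralizer ({a} : Set M)) = 50
  faith : ∀ i : M, orderOf i = 2 → ∃ p ∈ P, i * p ≠ p * i
  c3 : ∀ t : M, orderOf t = 3 → ¬ 8 ∣ Nat.card (centralizer ({t} : Set M))

/-- lifting the centralizer of an element of prime order -/
theorem lift_cent {N : Type u} {X : Type v} [Group N] [Group X] [Finite N] (f : N →* X) (hf : Function.Surjective f)
    {τ : N} (hτ : orderOf τ = 3) (hk : ¬ 3 ∣ Nat.card f.ker) {c : X} (hc : c * f τ = f τ * c) :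
    ∃ n : N, n * τ = τ * n ∧ f n = c := by
  classical
  have f3 : Fact (Nat.Prime 3) := ⟨Nat.prime_three⟩
  obtain ⟨n₀, rfl⟩ := hf c
  have hτ3 : τ ^ 3 = 1 := hτ ▸ pow_orderOf_eq_one τ
  have hτ1 : τ ≠ 1 := by rintro rfl; rw [orderOf_one] at hτ; omega
  set σ : N := n₀ * τ * n₀⁻¹ with hσ
  have hfσ : f σ = f τ := by
    rw [hσ, map_mul, map_mul, map_inv, hc, mul_inv_cancel_right]
  have hσo : orderOf σ = 3 := by rw [hσ, ← MulAut.conj_apply, MulEquiv.orderOf_eq, hτ]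
  set L : Subgroup N := (zpowers (f τ)).comap f with hL
  have hτL : τ ∈ L := mem_zpowers (f τ)
  have hσL : σ ∈ L := by rw [hL, mem_comap, hfσ]; exact mem_zpowers _
  have hfτ : orderOf (f τ) ∣ 3 := by
    apply orderOf_dvd_of_pow_eq_one
    rw [← map_pow, hτ3, map_one]
  have hLc : Nat.card L ∣ Nat.card f.ker * 3 := by
    have h1 : L.map f ≤ zpowers (f τ) := map_comap_le _ _
    have h2 : Nat.card (L.map f) ∣ 3 := (Subgroup.card_dvd_of_le h1).trans (by rw [Nat.card_zpowers]; exact hfτ)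
    have h3 : Nat.card L = Nat.card f.ker * Nat.card (L.map f) := by
      have h4 := (f.comp L.subtype).ker.card_mul_index
      rw [Subgroup.index_ker] at h4
      have h5 : Nat.card (f.comp L.subtype).ker = Nat.card f.ker := by
        have h7 : (f.comp L.subtype).ker = f.ker.subgroupOf L := by
          ext x
          simp [MonoidHom.mem_ker, mem_subgroupOf]
        rw [h7]
        exact Nat.card_congr (Subgroup.subgroupOfEquivOfLe (fun x hx => by
          rw [hL, mem_comap, MonoidHom.mem_ker.1 hx]; exact one_mem _)).toEquiv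
      have h6 : (f.comp L.subtype).range = L.map f := by
        rw [MonoidHom.range_comp, Subgroup.range_subtype]
      rw [h5, h6] at h4
      exact h4.symm
    rw [h3]
    exact Nat.mul_dvd_mul_left _ h2
  have hsyl : ∀ v : L, orderOf v = 3 → ∃ P : Sylow 3 L, (P : Subgroup L) = zpowers v := by
    intro v hv
    have hp : IsPGroup 3 (zpowers v) := IsPGroup.of_card (n := 1) (by rw [Nat.card_zpowers, hv, pow_one])
    have hi : ¬ 3 ∣ (zpowers v).index := by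
      have h1 := (zpowers v).card_mul_index
      rw [Nat.card_zpowers, hv] at h1
      rw [← h1, mul_comm 3] at hLc
      have h2 := Nat.dvd_of_mul_dvd_mul_right (by norm_num) hLc
      exact fun h => hk (h.trans h2)
    exact ⟨hp.toSylow hi, rfl⟩
  obtain ⟨A, hA⟩ := hsyl ⟨τ, hτL⟩ (by rw [Subgroup.orderOf_mk, hτ])
  obtain ⟨B, hB⟩ := hsyl ⟨σ, hσL⟩ (by rw [Subgroup.orderOf_mk, hσo])
  obtain ⟨g, hg⟩ := MulAction.exists_smul_eq L A B
  have h1 : g * ⟨τ, hτL⟩ * g⁻¹ ∈ ((g • A : Sylow 3 L) : Subgroup L) := by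
    rw [Sylow.coe_subgroup_smul, hA]
    exact Subgroup.smul_mem_pointwise_smul _ _ _ (mem_zpowers _)
  rw [hg, hB] at h1
  obtain ⟨k, hk3, hk'⟩ : ∃ k < 3, σ ^ k = (g : N) * τ * (g : N)⁻¹ := by
    obtain ⟨k, hk⟩ := (mem_zpowers_iff_mem_range_orderOf.1 h1 |> Finset.mem_image.1)
    rw [Subgroup.orderOf_mk, hσo] at hk
    exact ⟨k, Finset.mem_range.1 hk.1, congrArg Subtype.val hk.2⟩
  -- `f g` is a power of `f τ`
  obtain ⟨m, hm⟩ := mem_zpowers_iff.1 (g.2 : f (g : N) ∈ zpowers (f τ))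
  have hcm : f (g : N) * f τ * (f (g : N))⁻¹ = f τ := by
    rw [← hm, mul_inv_eq_iff_eq_mul]
    exact ((Commute.refl (f τ)).zpow_left m).eq
  have hk'' : f τ ^ k = f τ := by
    have := congrArg f hk'
    rw [map_pow, hfσ, map_mul, map_mul, map_inv, hcm] at this
    exact this
  have hfo : orderOf (f τ) = 3 := by
    rcases (Nat.dvd_prime Nat.prime_three).1 hfτ with h | h
    · exfalso
      have h2 : f τ = 1 := orderOf_eq_one_iff.1 h
      apply hk
      rw [← hτ]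
      exact Subgroup.orderOf_dvd_natCard _ (MonoidHom.mem_ker.2 h2)
    · exact h
  have hk1 : k = 1 := by
    have h2 : f τ ^ k = f τ ^ 1 := by rw [pow_one]; exact hk''
    exact pow_injOn_Iio_orderOf (by simpa [hfo] using hk3) (by simp [hfo]) h2
  rw [hk1, pow_one] at hk'
  -- now `g τ g⁻¹ = n₀ τ n₀⁻¹`, correct `g` by a power of `τ`
  refine ⟨((g : N) * τ ^ (-m))⁻¹ * n₀, ?_, ?_⟩
  · have h2 : n₀ * τ * n₀⁻¹ = (g : N) * τ * (g : N)⁻¹ := hk'
    have h3 : n₀ * τ = (g : N) * τ * (g : N)⁻¹ * n₀ := by rw [← h2, inv_mul_cancel_right]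
    have h4 : τ ^ (-m) * τ = τ * τ ^ (-m) := ((Commute.refl τ).zpow_left (-m)).eq
    have h5 : (τ ^ (-m))⁻¹ * τ = τ * (τ ^ (-m))⁻¹ := ((Commute.refl τ).zpow_left (-m)).inv_left.eq
    calc ((g : N) * τ ^ (-m))⁻¹ * n₀ * τ = (τ ^ (-m))⁻¹ * (g : N)⁻¹ * (n₀ * τ) := by group
      _ = (τ ^ (-m))⁻¹ * (g : N)⁻¹ * ((g : N) * τ * (g : N)⁻¹ * n₀) := by rw [h3]
      _ = (τ ^ (-m))⁻¹ * τ * ((g : N)⁻¹ * n₀) := by simp only [mul_assoc, inv_mul_cancel_left]
      _ = τ * (τ ^ (-m))⁻¹ * ((g : N)⁻¹ * n₀) := by rw [h5]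
      _ = _ := by rw [mul_inv_rev]; simp only [mul_assoc]
  · rw [map_mul, map_inv, map_mul, map_zpow, ← hm, zpow_neg, mul_inv_cancel, inv_one, one_mul]

namespace Base

variable {M : Type u} [Group M] {P : Subgroup M} (B : Base P)

include B

theorem memc {a g : M} (ha : a ∈ P) : g * a * g⁻¹ ∈ P := B.nor.conj_mem a ha g

/-- `P` has index two in the centralizer of `x` -/
theorem cases {x : M} (hx : x ∈ P) (hx1 : x ≠ 1) {i c : M} (hi : orderOf i = 2) (hxi : i * x = x * i)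
    (hc : c * x = x * c) : c ∈ P ∨ c * i ∈ P := by
  by_cases h : c ∈ P
  · exact Or.inl h
  · right
    set C := centralizer ({x} : Set M) with hC
    have hPC : P ≤ C := fun p hp => mem_centralizer_singleton_iff.2 (B.comm p hp x hx)
    have h1 : (P.subgroupOf C).index = 2 := by
      have h2 := (P.subgroupOf C).card_mul_index
      rw [Nat.card_congr (Subgroup.subgroupOfEquivOfLe hPC).toEquiv, B.card, B.c50 x hx hx1] at h2
      omega
    have hiP : i ∉ P := by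
      intro hip
      have h2 := Subgroup.orderOf_dvd_natCard P hip
      rw [hi, B.card] at h2
      omega
    have h3 : (⟨c, mem_centralizer_singleton_iff.2 hc⟩ : C) * ⟨i, mem_centralizer_singleton_iff.2 hxi⟩ ∈
        P.subgroupOf C := by
      rw [Subgroup.mul_mem_iff_of_index_two h1]
      exact ⟨fun h4 => absurd h4 h, fun h4 => absurd h4 hiP⟩
    exact h3

/-- the centralizer of `P` -/
theorem cent_le {x : M} (hx : x ∈ P) (hx1 : x ≠ 1) {i c : M} (hi : orderOf i = 2) (hxi : i * x = x * i)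
    (hc : ∀ p ∈ P, c * p = p * c) : c ∈ P := by
  rcases B.cases hx hx1 hi hxi (hc x hx) with h | h
  · exact h
  · exfalso
    obtain ⟨p, hp, hne⟩ := B.faith i hi
    apply hne
    have h1 := B.comm _ h p hp
    have h2 := hc p hp
    have h3 : c * (i * p) = c * (p * i) := by
      calc c * (i * p) = c * i * p := by rw [mul_assoc]
        _ = p * (c * i) := h1
        _ = p * c * i := by rw [mul_assoc]
        _ = c * p * i := by rw [h2]
        _ = _ := by rw [mul_assoc]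
    exact mul_left_cancel h3

/-- the structure of `P` under an involution `i` commuting with `x` -/
theorem struct {x : M} (hx : x ∈ P) (hx1 : x ≠ 1) {i : M} (hi : orderOf i = 2) (hxi : i * x = x * i) :
    ∃ y ∈ P, y ≠ 1 ∧ i * y * i⁻¹ = y⁻¹ ∧ (∀ p ∈ P, ∃ a b : ℕ, p = x ^ a * y ^ b) := by
  have hii : i * i = 1 := by rw [← pow_two, ← hi, pow_orderOf_eq_one]
  have hiv : i⁻¹ = i := inv_eq_of_mul_eq_one_right hii
  obtain ⟨p, hp, hne⟩ := B.faith i hi
  have hy : p⁻¹ * (i * p * i⁻¹) ∈ P := P.mul_mem (P.inv_mem hp) (B.memc hp)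
  have hyi : i * (p⁻¹ * (i * p * i⁻¹)) * i⁻¹ = (p⁻¹ * (i * p * i⁻¹))⁻¹ := by
    have h1 : i * (p⁻¹ * (i * p * i⁻¹)) * i⁻¹ = (i * p * i⁻¹)⁻¹ * (i * i * p * (i * i)⁻¹) := by group
    rw [h1, hii, one_mul, inv_one, mul_one]
    group
  have hy1 : p⁻¹ * (i * p * i⁻¹) ≠ 1 := by
    intro h
    apply hne
    have h2 : i * p * i⁻¹ = p := by
      have := congrArg (fun z => p * z) h
      simpa [mul_assoc] using this
    exact mul_inv_eq_iff_eq_mul.1 h2
  refine ⟨_, hy, hy1, hyi, ?_⟩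
  set y := p⁻¹ * (i * p * i⁻¹) with hyd
  clear_value y
  have hox : ∀ z ∈ P, z ≠ 1 → orderOf z = 5 := by
    intro z hz hz1
    have : Fact (Nat.Prime 5) := ⟨Nat.prime_five⟩
    exact orderOf_eq_prime (B.exp z hz) hz1
  have hinj : Function.Injective (fun a : Fin 5 × Fin 5 => (⟨x ^ (a.1 : ℕ) * y ^ (a.2 : ℕ),
      P.mul_mem (P.pow_mem hx _) (P.pow_mem hy _)⟩ : P)) := by
    rintro ⟨a, b⟩ ⟨c, d⟩ h
    have h1 : x ^ (a : ℕ) * y ^ (b : ℕ) = x ^ (c : ℕ) * y ^ (d : ℕ) := congrArg Subtype.val h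
    have hcm : ∀ m n : ℕ, x ^ m * y ^ n = y ^ n * x ^ m := fun m n =>
      B.comm _ (P.pow_mem hx m) _ (P.pow_mem hy n)
    -- apply `i`
    have h2 : x ^ (a : ℕ) * (y ^ (b : ℕ))⁻¹ = x ^ (c : ℕ) * (y ^ (d : ℕ))⁻¹ := by
      have hix : ∀ m : ℕ, i * x ^ m * i⁻¹ = x ^ m := by
        intro m
        rw [mul_inv_eq_iff_eq_mul]
        exact ((show Commute i x from hxi).pow_right m).eq
      have hiy : ∀ m : ℕ, i * y ^ m * i⁻¹ = (y ^ m)⁻¹ := by
        intro m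
        rw [← MulAut.conj_apply, map_pow, MulAut.conj_apply, hyi, inv_pow]
      have h3 : i * (x ^ (a : ℕ) * y ^ (b : ℕ)) * i⁻¹ = i * (x ^ (c : ℕ) * y ^ (d : ℕ)) * i⁻¹ := by rw [h1]
      rw [show i * (x ^ (a : ℕ) * y ^ (b : ℕ)) * i⁻¹ = (i * x ^ (a : ℕ) * i⁻¹) * (i * y ^ (b : ℕ) * i⁻¹) by group,
        show i * (x ^ (c : ℕ) * y ^ (d : ℕ)) * i⁻¹ = (i * x ^ (c : ℕ) * i⁻¹) * (i * y ^ (d : ℕ) * i⁻¹) by group,
        hix, hix, hiy, hiy] at h3
      exact h3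
    have h4 : x ^ (2 * (a : ℕ)) = x ^ (2 * (c : ℕ)) := by
      have e1 : x ^ (2 * (a : ℕ)) = (x ^ (a : ℕ) * y ^ (b : ℕ)) * (x ^ (a : ℕ) * (y ^ (b : ℕ))⁻¹) := by
        rw [hcm a b]
        rw [two_mul, pow_add]
        have e2 : (y ^ (b : ℕ))⁻¹ * (x ^ (a : ℕ)) = x ^ (a : ℕ) * (y ^ (b : ℕ))⁻¹ :=
          B.comm _ (P.inv_mem (P.pow_mem hy _)) _ (P.pow_mem hx _)
        rw [← e2]
        calc x ^ (a : ℕ) * x ^ (a : ℕ) = (y ^ (b : ℕ) * (y ^ (b : ℕ))⁻¹) * (x ^ (a : ℕ) * x ^ (a : ℕ)) := by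
              rw [mul_inv_cancel, one_mul]
          _ = y ^ (b : ℕ) * ((y ^ (b : ℕ))⁻¹ * x ^ (a : ℕ)) * x ^ (a : ℕ) := by simp only [mul_assoc]
          _ = y ^ (b : ℕ) * (x ^ (a : ℕ) * (y ^ (b : ℕ))⁻¹) * x ^ (a : ℕ) := by rw [e2]
          _ = _ := by simp only [mul_assoc]
      have e2 : x ^ (2 * (c : ℕ)) = (x ^ (c : ℕ) * y ^ (d : ℕ)) * (x ^ (c : ℕ) * (y ^ (d : ℕ))⁻¹) := by
        rw [hcm c d]
        rw [two_mul, pow_add]
        have e2 : (y ^ (d : ℕ))⁻¹ * (x ^ (c : ℕ)) = x ^ (c : ℕ) * (y ^ (d : ℕ))⁻¹ :=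
          B.comm _ (P.inv_mem (P.pow_mem hy _)) _ (P.pow_mem hx _)
        rw [← e2]
        calc x ^ (c : ℕ) * x ^ (c : ℕ) = (y ^ (d : ℕ) * (y ^ (d : ℕ))⁻¹) * (x ^ (c : ℕ) * x ^ (c : ℕ)) := by
              rw [mul_inv_cancel, one_mul]
          _ = y ^ (d : ℕ) * ((y ^ (d : ℕ))⁻¹ * x ^ (c : ℕ)) * x ^ (c : ℕ) := by simp only [mul_assoc]
          _ = y ^ (d : ℕ) * (x ^ (c : ℕ) * (y ^ (d : ℕ))⁻¹) * x ^ (c : ℕ) := by rw [e2]
          _ = _ := by simp only [mul_assoc]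
      rw [e1, e2, h1, h2]
    have h5 : (a : ℕ) = c := by
      have h6 := pow_inj_mod.1 h4
      rw [hox x hx hx1] at h6
      have := a.2; have := c.2
      omega
    have h6 : y ^ (b : ℕ) = y ^ (d : ℕ) := by rw [h5] at h1; exact mul_left_cancel h1
    have h7 : (b : ℕ) = d := by
      have h6 := pow_inj_mod.1 h6
      rw [hox y hy hy1] at h6
      have := b.2; have := d.2
      omega
    rw [Prod.mk.injEq]
    exact ⟨Fin.ext h5, Fin.ext h7⟩
  have : Finite P := Nat.finite_of_card_ne_zero (by rw [B.card]; norm_num)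
  have hsurj := (Nat.bijective_iff_injective_and_card (fun a : Fin 5 × Fin 5 => (⟨x ^ (a.1 : ℕ) * y ^ (a.2 : ℕ),
      P.mul_mem (P.pow_mem hx _) (P.pow_mem hy _)⟩ : P))).2 ⟨hinj, by rw [B.card]; simp⟩
  intro q hq
  obtain ⟨⟨a, b⟩, hab⟩ := hsurj.2 ⟨q, hq⟩
  exact ⟨a, b, (congrArg Subtype.val hab).symm⟩

theorem ord {z : M} (hz : z ∈ P) (hz1 : z ≠ 1) : orderOf z = 5 := by
  have : Fact (Nat.Prime 5) := ⟨Nat.prime_five⟩
  exact orderOf_eq_prime (B.exp z hz) hz1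

/-- the scalar of order four, commuting with `i` -/
theorem exists_scalar {x : M} (hx : x ∈ P) (hx1 : x ≠ 1) {i : M} (hi : orderOf i = 2) (hxi : i * x = x * i) :
    ∃ g : M, (∀ p ∈ P, g * p * g⁻¹ = p ^ 2) ∧ g * i = i * g := by
  have hii : i * i = 1 := by rw [← pow_two, ← hi, pow_orderOf_eq_one]
  have hiv : i⁻¹ = i := inv_eq_of_mul_eq_one_right hii
  have hx5 := B.exp x hx
  have hx2 : x ^ 2 ≠ 1 := by
    intro h
    have h1 := orderOf_dvd_of_pow_eq_one h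
    rw [B.ord hx hx1] at h1
    omega
  obtain ⟨y, hy, hy1, hiy, hgen⟩ := B.struct hx hx1 hi hxi
  obtain ⟨g₀, hg₀⟩ := B.trans x hx hx1 (x ^ 2) (P.pow_mem hx 2) hx2
  -- `g₀ i g₀⁻¹` commutes with `x`
  have hc1 : g₀ * i * g₀⁻¹ * x = x * (g₀ * i * g₀⁻¹) := by
    have h1 : g₀ * i * g₀⁻¹ * (x ^ 2) = x ^ 2 * (g₀ * i * g₀⁻¹) := by
      rw [← hg₀]
      calc g₀ * i * g₀⁻¹ * (g₀ * x * g₀⁻¹) = g₀ * (i * x) * g₀⁻¹ := by group
        _ = g₀ * (x * i) * g₀⁻¹ := by rw [hxi]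
        _ = _ := by group
    have h2 : Commute (g₀ * i * g₀⁻¹) ((x ^ 2) ^ 3) := (show Commute (g₀ * i * g₀⁻¹) (x ^ 2) from h1).pow_right 3
    have h3 : (x ^ 2) ^ 3 = x := by rw [← pow_mul, show 2 * 3 = 5 + 1 by norm_num, pow_succ, hx5, one_mul]
    rw [h3] at h2
    exact h2.eq
  have hnot : g₀ * i * g₀⁻¹ ∉ P := by
    intro h
    have h1 := Subgroup.orderOf_dvd_natCard P h
    rw [← MulAut.conj_apply, MulEquiv.orderOf_eq, hi, B.card] at h1
    omega
  have hq : g₀ * i * g₀⁻¹ * i ∈ P := (B.cases hx hx1 hi hxi hc1).resolve_left hnot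
  set q := g₀ * i * g₀⁻¹ * i with hqd
  have hqi : g₀ * i * g₀⁻¹ = q * i := by rw [hqd, mul_assoc (g₀ * i * g₀⁻¹), hii, mul_one]
  have hqinv : q * (i * q * i⁻¹) = 1 := by
    have h1 : (g₀ * i * g₀⁻¹) * (g₀ * i * g₀⁻¹) = 1 := by
      calc (g₀ * i * g₀⁻¹) * (g₀ * i * g₀⁻¹) = g₀ * (i * i) * g₀⁻¹ := by group
        _ = 1 := by rw [hii]; group
    rw [hqi] at h1
    rw [hiv]
    calc q * (i * q * i) = q * i * (q * i) := by simp only [mul_assoc]
      _ = 1 := h1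
  clear_value q
  -- `s = q³`, `g₁ = s⁻¹ g₀`
  set s := q ^ 3 with hs
  have hsP : s ∈ P := P.pow_mem hq 3
  have hss : s * s = q := by
    rw [hs, ← pow_add, show 3 + 3 = 5 + 1 by norm_num, pow_succ, B.exp q hq, one_mul]
  have his : i * s * i⁻¹ = s⁻¹ := by
    have h1 : i * q * i⁻¹ = q⁻¹ := (inv_eq_of_mul_eq_one_right hqinv).symm
    rw [hs, ← MulAut.conj_apply, map_pow, MulAut.conj_apply, h1, inv_pow]
  clear_value s
  set g₁ := s⁻¹ * g₀ with hg₁
  have hg1i : g₁ * i * g₁⁻¹ = i := by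
    calc g₁ * i * g₁⁻¹ = s⁻¹ * (g₀ * i * g₀⁻¹) * s := by rw [hg₁]; group
      _ = s⁻¹ * ((s * s) * i) * s := by rw [hqi, hss]
      _ = s * (i * s * i⁻¹) * i := by group
      _ = i := by rw [his, mul_inv_cancel, one_mul]
  have hg1x : g₁ * x * g₁⁻¹ = x ^ 2 := by
    calc g₁ * x * g₁⁻¹ = s⁻¹ * (g₀ * x * g₀⁻¹) * s := by rw [hg₁]; group
      _ = s⁻¹ * x ^ 2 * s := by rw [hg₀]
      _ = x ^ 2 := by
        rw [B.comm s⁻¹ (P.inv_mem hsP) (x ^ 2) (P.pow_mem hx 2), inv_mul_cancel_right]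
  clear_value g₁
  have hgi : g₁ * i = i * g₁ := mul_inv_eq_iff_eq_mul.1 hg1i
  -- `g₁ y g₁⁻¹ = y ^ b`
  have hgy : ∃ b : ℕ, g₁ * y * g₁⁻¹ = y ^ b := by
    obtain ⟨a, b, hab⟩ := hgen (g₁ * y * g₁⁻¹) (B.memc hy)
    refine ⟨b, ?_⟩
    have h1 : i * (g₁ * y * g₁⁻¹) * i⁻¹ = (g₁ * y * g₁⁻¹)⁻¹ := by
      calc i * (g₁ * y * g₁⁻¹) * i⁻¹ = (i * g₁) * y * (g₁⁻¹ * i⁻¹) := by group
        _ = (g₁ * i) * y * (g₁⁻¹ * i⁻¹) := by rw [hgi]
        _ = (g₁ * i) * y * (i * g₁)⁻¹ := by rw [mul_inv_rev]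
        _ = (g₁ * i) * y * (g₁ * i)⁻¹ := by rw [hgi]
        _ = g₁ * (i * y * i⁻¹) * g₁⁻¹ := by group
        _ = _ := by rw [hiy]; group
    have hix : i * x ^ a * i⁻¹ = x ^ a := by
      rw [mul_inv_eq_iff_eq_mul]
      exact ((show Commute i x from hxi).pow_right a).eq
    have hiyb : i * y ^ b * i⁻¹ = (y ^ b)⁻¹ := by
      rw [← MulAut.conj_apply, map_pow, MulAut.conj_apply, hiy, inv_pow]
    rw [hab, show i * (x ^ a * y ^ b) * i⁻¹ = (i * x ^ a * i⁻¹) * (i * y ^ b * i⁻¹) by group, hix, hiyb, mul_inv_rev,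
      B.comm (y ^ b)⁻¹ (P.inv_mem (P.pow_mem hy b)) (x ^ a)⁻¹ (P.inv_mem (P.pow_mem hx a))] at h1
    have h2 : x ^ a = (x ^ a)⁻¹ := mul_right_cancel h1
    have h3 : x ^ a = 1 := by
      have h4 : x ^ a * x ^ a = 1 := by nth_rw 1 [h2]; rw [inv_mul_cancel]
      have h5 : (x ^ a) ^ 5 = 1 := B.exp _ (P.pow_mem hx a)
      have h6 : (x ^ a) ^ 5 = (x ^ a * x ^ a) * (x ^ a * x ^ a) * x ^ a := by
        simp only [pow_succ, pow_zero, one_mul, mul_assoc]
      rw [h6, h4, one_mul, one_mul] at h5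
      exact h5
    rw [hab, h3, one_mul]
  -- no element squares `x` and fixes `y`
  have hno : ∀ g : M, g * x * g⁻¹ = x ^ 2 → g * y * g⁻¹ ≠ y := by
    intro g hgx hgy
    set C := centralizer ({y} : Set M) with hC
    have hPC : P ≤ C := fun p hp => mem_centralizer_singleton_iff.2 (B.comm p hp y hy)
    have h1 : (P.subgroupOf C).index = 2 := by
      have h2 := (P.subgroupOf C).card_mul_index
      rw [Nat.card_congr (Subgroup.subgroupOfEquivOfLe hPC).toEquiv, B.card, B.c50 y hy hy1] at h2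
      omega
    have h2 : g ^ 2 ∈ P := by
      have h3 := Subgroup.sq_mem_of_index_two h1 (⟨g, mem_centralizer_singleton_iff.2 (mul_inv_eq_iff_eq_mul.1 hgy)⟩ : C)
      exact h3
    have h3 : g ^ 2 * x * (g ^ 2)⁻¹ = x ^ 4 := by
      calc g ^ 2 * x * (g ^ 2)⁻¹ = g * (g * x * g⁻¹) * g⁻¹ := by rw [pow_two]; group
        _ = g * x ^ 2 * g⁻¹ := by rw [hgx]
        _ = (g * x * g⁻¹) ^ 2 := by rw [← MulAut.conj_apply, ← MulAut.conj_apply, map_pow]
        _ = x ^ 4 := by rw [hgx, ← pow_mul]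
    have h4 : g ^ 2 * x * (g ^ 2)⁻¹ = x := by rw [B.comm _ h2 x hx, mul_inv_cancel_right]
    have h5 : x ^ 4 = x ^ 1 := by rw [pow_one, ← h3, h4]
    have h6 := pow_inj_mod.1 h5
    rw [B.ord hx hx1] at h6
    omega
  have hall : ∀ g : M, g * x * g⁻¹ = x ^ 2 → g * y * g⁻¹ = y ^ 2 → ∀ p ∈ P, g * p * g⁻¹ = p ^ 2 := by
    intro g h1 h2 p hp
    obtain ⟨a, b, rfl⟩ := hgen p hp
    have h3 : (x ^ a * y ^ b) ^ 2 = (x ^ 2) ^ a * (y ^ 2) ^ b := by
      have hc : Commute (x ^ a) (y ^ b) := B.comm _ (P.pow_mem hx a) _ (P.pow_mem hy b)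
      rw [hc.mul_pow, ← pow_mul, ← pow_mul, ← pow_mul, ← pow_mul, mul_comm 2 a, mul_comm 2 b]
    rw [h3, ← h1, ← h2, ← MulAut.conj_apply, ← MulAut.conj_apply, ← MulAut.conj_apply, map_mul, map_pow, map_pow]
  have hgix : (g₁ * i) * x * (g₁ * i)⁻¹ = x ^ 2 := by
    have h1 : i * x * i⁻¹ = x := mul_inv_eq_iff_eq_mul.2 hxi
    calc (g₁ * i) * x * (g₁ * i)⁻¹ = g₁ * (i * x * i⁻¹) * g₁⁻¹ := by group
      _ = _ := by rw [h1, hg1x]
  obtain ⟨b', hb'⟩ := hgy
  obtain ⟨b, hb5, hb⟩ : ∃ b < 5, g₁ * y * g₁⁻¹ = y ^ b := by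
    refine ⟨b' % 5, Nat.mod_lt _ (by norm_num), ?_⟩
    rw [hb', ← B.ord hy hy1, pow_mod_orderOf]
  have hgiy : (g₁ * i) * y * (g₁ * i)⁻¹ = (y ^ b)⁻¹ := by
    calc (g₁ * i) * y * (g₁ * i)⁻¹ = g₁ * (i * y * i⁻¹) * g₁⁻¹ := by group
      _ = (g₁ * y * g₁⁻¹)⁻¹ := by rw [hiy]; group
      _ = _ := by rw [hb]
  have hy5 := B.exp y hy
  interval_cases b
  · exfalso
    rw [pow_zero] at hb
    apply hy1
    calc y = g₁⁻¹ * (g₁ * y * g₁⁻¹) * g₁ := by group
      _ = 1 := by rw [hb]; group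
  · exact absurd (by rw [hb, pow_one]) (hno g₁ hg1x)
  · exact ⟨g₁, hall g₁ hg1x hb, hgi⟩
  · refine ⟨g₁ * i, hall (g₁ * i) hgix ?_, by rw [← mul_assoc i, ← hgi]⟩
    rw [hgiy]
    symm
    apply eq_inv_of_mul_eq_one_left
    rw [← pow_add]
    exact hy5
  · exfalso
    refine hno (g₁ * i) hgix ?_
    rw [hgiy]
    apply inv_eq_of_mul_eq_one_left
    rw [← pow_succ']
    exact hy5

theorem card_M [Finite M] {x : M} (hx : x ∈ P) (hx1 : x ≠ 1) : Nat.card M = 1200 := by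
  classical
  have := Fintype.ofFinite M
  have h1 := card_cls x
  have h2 : (Finset.univ.filter (fun y : M => IsConj x y)).card = 24 := by
    have h3 : (Finset.univ.filter (fun y : M => y ∈ P)).card = 25 := by
      rw [← B.card, Nat.card_eq_fintype_card, Fintype.card_subtype]
    have h4 : Finset.univ.filter (fun y : M => IsConj x y) = (Finset.univ.filter (fun y : M => y ∈ P)).erase 1 := by
      ext y
      simp only [Finset.mem_filter, Finset.mem_univ, true_and, Finset.mem_erase]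
      constructor
      · intro h
        obtain ⟨g, rfl⟩ := isConj_iff.1 h
        refine ⟨?_, B.memc hx⟩
        intro h5
        apply hx1
        calc x = g⁻¹ * (g * x * g⁻¹) * g := by group
          _ = 1 := by rw [h5]; group
      · rintro ⟨h5, h6⟩
        obtain ⟨g, hg⟩ := B.trans x hx hx1 y h6 h5
        exact isConj_iff.2 ⟨g, hg⟩
    rw [h4, Finset.card_erase_of_mem (by simp [P.one_mem]), h3]
  unfold cc at h1
  rw [h2, B.c50 x hx hx1] at h1
  omega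

theorem adjust {i : M} (hi : orderOf i = 2) {g₀ : M} (hq : g₀ * i * g₀⁻¹ * i ∈ P) :
    ∃ s ∈ P, (s⁻¹ * g₀) * i = i * (s⁻¹ * g₀) := by
  have hii : i * i = 1 := by rw [← pow_two, ← hi, pow_orderOf_eq_one]
  have hiv : i⁻¹ = i := inv_eq_of_mul_eq_one_right hii
  set q := g₀ * i * g₀⁻¹ * i with hqd
  have hqi : g₀ * i * g₀⁻¹ = q * i := by rw [hqd, mul_assoc (g₀ * i * g₀⁻¹), hii, mul_one]
  have hqinv : q * (i * q * i⁻¹) = 1 := by
    have h1 : (g₀ * i * g₀⁻¹) * (g₀ * i * g₀⁻¹) = 1 := by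
      calc (g₀ * i * g₀⁻¹) * (g₀ * i * g₀⁻¹) = g₀ * (i * i) * g₀⁻¹ := by group
        _ = 1 := by rw [hii]; group
    rw [hqi] at h1
    rw [hiv]
    calc q * (i * q * i) = q * i * (q * i) := by simp only [mul_assoc]
      _ = 1 := h1
  clear_value q
  set s := q ^ 3 with hs
  have hsP : s ∈ P := P.pow_mem hq 3
  have hss : s * s = q := by
    rw [hs, ← pow_add, show 3 + 3 = 5 + 1 by norm_num, pow_succ, B.exp q hq, one_mul]
  have his : i * s * i⁻¹ = s⁻¹ := by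
    have h1 : i * q * i⁻¹ = q⁻¹ := (inv_eq_of_mul_eq_one_right hqinv).symm
    rw [hs, ← MulAut.conj_apply, map_pow, MulAut.conj_apply, h1, inv_pow]
  clear_value s
  refine ⟨s, hsP, ?_⟩
  rw [← mul_inv_eq_iff_eq_mul]
  calc s⁻¹ * g₀ * i * (s⁻¹ * g₀)⁻¹ = s⁻¹ * (g₀ * i * g₀⁻¹) * s := by group
      _ = s⁻¹ * ((s * s) * i) * s := by rw [hqi, hss]
      _ = s * (i * s * i⁻¹) * i := by group
      _ = i := by rw [his, mul_inv_cancel, one_mul]

theorem fixed {x : M} (hx : x ∈ P) (hx1 : x ≠ 1) {i : M} (hi : orderOf i = 2) (hxi : i * x = x * i) {p : M}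
    (hp : p ∈ P) (hc : i * p = p * i) : ∃ a : ℕ, p = x ^ a := by
  obtain ⟨y, hy, hy1, hiy, hgen⟩ := B.struct hx hx1 hi hxi
  obtain ⟨a, b, hab⟩ := hgen p hp
  refine ⟨a, ?_⟩
  have h1 : i * p * i⁻¹ = p := mul_inv_eq_iff_eq_mul.2 hc
  have hix : i * x ^ a * i⁻¹ = x ^ a := by
    rw [mul_inv_eq_iff_eq_mul]
    exact ((show Commute i x from hxi).pow_right a).eq
  have hiyb : i * y ^ b * i⁻¹ = (y ^ b)⁻¹ := by
    rw [← MulAut.conj_apply, map_pow, MulAut.conj_apply, hiy, inv_pow]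
  rw [hab, show i * (x ^ a * y ^ b) * i⁻¹ = (i * x ^ a * i⁻¹) * (i * y ^ b * i⁻¹) by group, hix, hiyb] at h1
  have h2 : (y ^ b)⁻¹ = y ^ b := mul_left_cancel h1
  have h3 : y ^ b = 1 := by
    have h4 : y ^ b * y ^ b = 1 := by nth_rw 1 [← h2]; rw [inv_mul_cancel]
    have h5 : (y ^ b) ^ 5 = 1 := B.exp _ (P.pow_mem hy b)
    have h6 : (y ^ b) ^ 5 = (y ^ b * y ^ b) * (y ^ b * y ^ b) * y ^ b := by
      simp only [pow_succ, pow_zero, one_mul, mul_assoc]
    rw [h6, h4, one_mul, one_mul] at h5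
    exact h5
  rw [hab, h3, mul_one]

/-- **the quotient `N(P)/P`** -/
theorem d48 [Finite M] {X : Type v} [Group X] (f : M →* X) (hf : Function.Surjective f) (hk : f.ker = P)
    {x : M} (hx : x ∈ P) (hx1 : x ≠ 1) {i : M} (hi : orderOf i = 2) (hxi : i * x = x * i) :
    ∃ g t : M, (∀ p ∈ P, g * p * g⁻¹ = p ^ 2) ∧ D48 X (f g) (f i) (f t) := by
  classical
  obtain ⟨g, hg, hgi⟩ := B.exists_scalar hx hx1 hi hxi
  have hii : i * i = 1 := by rw [← pow_two, ← hi, pow_orderOf_eq_one]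
  have hiv : i⁻¹ = i := inv_eq_of_mul_eq_one_right hii
  have hM := B.card_M hx hx1
  have hmem : ∀ m : M, f m = 1 ↔ m ∈ P := fun m => by rw [← hk, MonoidHom.mem_ker]
  have hiP : i ∉ P := by
    intro h
    have h1 := Subgroup.orderOf_dvd_natCard P h
    rw [hi, B.card] at h1
    omega
  have hgk : ∀ (k : ℕ), ∀ p ∈ P, g ^ k * p * (g ^ k)⁻¹ = p ^ (2 ^ k) := by
    intro k
    induction k with
    | zero => intro p _; simp
    | succ k ih =>
      intro p hp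
      calc g ^ (k + 1) * p * (g ^ (k + 1))⁻¹ = g * (g ^ k * p * (g ^ k)⁻¹) * g⁻¹ := by rw [pow_succ']; group
        _ = g * p ^ (2 ^ k) * g⁻¹ := by rw [ih p hp]
        _ = (g * p * g⁻¹) ^ (2 ^ k) := by rw [← MulAut.conj_apply, ← MulAut.conj_apply, map_pow]
        _ = _ := by rw [hg p hp, ← pow_mul, pow_succ']
  have hfk : ∀ c : M, (∀ p ∈ P, c * p = p * c) → f c = 1 := fun c hc => (hmem c).2 (B.cent_le hx hx1 hi hxi hc)
  have hcen : ∀ z : X, f g * z = z * f g := by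
    intro z
    obtain ⟨m, rfl⟩ := hf z
    have h1 : f (g * m * g⁻¹ * m⁻¹) = 1 := by
      apply hfk
      intro p hp
      have h2 : m⁻¹ * p * m ∈ P := by
        have := B.memc (g := m⁻¹) hp
        rwa [inv_inv] at this
      have h3 : g⁻¹ * (m⁻¹ * p * m) ^ 2 * g = m⁻¹ * p * m := by
        rw [← hg _ h2]; group
      rw [← mul_inv_eq_iff_eq_mul]
      have hgp : ∀ q ∈ P, g⁻¹ * q * g ∈ P := fun q hq => by
        have := B.memc (g := g⁻¹) hq
        rwa [inv_inv] at this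
      have h4 : (g⁻¹ * (m⁻¹ * p * m) * g) ^ 2 = m⁻¹ * p * m := by
        rw [← hg _ (hgp _ h2)]; group
      calc g * m * g⁻¹ * m⁻¹ * p * (g * m * g⁻¹ * m⁻¹)⁻¹
          = g * (m * (g⁻¹ * (m⁻¹ * p * m) * g) * m⁻¹) * g⁻¹ := by group
        _ = (m * (g⁻¹ * (m⁻¹ * p * m) * g) * m⁻¹) ^ 2 := hg _ (B.memc (hgp _ h2))
        _ = m * (g⁻¹ * (m⁻¹ * p * m) * g) ^ 2 * m⁻¹ := by
            rw [← MulAut.conj_apply, ← map_pow, MulAut.conj_apply]
        _ = m * (m⁻¹ * p * m) * m⁻¹ := by rw [h4]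
        _ = p := by group
    rw [map_mul, map_mul, map_mul, map_inv, map_inv] at h1
    have h2 := mul_inv_eq_one.1 h1
    exact mul_inv_eq_iff_eq_mul.1 h2
  have hcX : Nat.card X = 48 := by
    have h1 := f.ker.card_mul_index
    rw [Subgroup.index_ker, MonoidHom.range_eq_top.2 hf, Subgroup.card_top, hk, B.card, hM] at h1
    omega
  have : Finite X := Nat.finite_of_card_ne_zero (by rw [hcX]; norm_num)
  have ho4 : orderOf (f g) = 4 := by
    have : Fact (Nat.Prime 2) := ⟨Nat.prime_two⟩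
    refine orderOf_eq_prime_pow (p := 2) (n := 1) (x := f g) ?_ ?_
    · intro h
      rw [← map_pow, hmem] at h
      have h1 := hgk (2 ^ 1) x hx
      rw [B.comm _ h x hx, mul_inv_cancel_right] at h1
      have h2 : x ^ 1 = x ^ 4 := by rw [pow_one]; exact h1
      have h6 := pow_inj_mod.1 h2
      rw [B.ord hx hx1] at h6
      omega
    · rw [← map_pow]
      apply hfk
      intro p hp
      rw [← mul_inv_eq_iff_eq_mul]
      have h1 := hgk (2 ^ 2) p hp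
      have h2 : p ^ (2 ^ (2 ^ 2)) = p := by
        have h3 : p ^ (5 * 3 + 1) = p := by rw [pow_succ, pow_mul, B.exp p hp, one_pow, one_mul]
        exact h3
      rw [h1, h2]
  -- an element of order 3
  have hex : ∃ τ : M, orderOf τ = 3 := by
    have : Fact (Nat.Prime 3) := ⟨Nat.prime_three⟩
    exact exists_prime_orderOf_dvd_card' 3 (by rw [hM]; norm_num)
  obtain ⟨τ, hτ⟩ := hex
  refine ⟨g, τ, hg, ?_⟩
  have hker3 : ¬ 3 ∣ Nat.card f.ker := by rw [hk, B.card]; norm_num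
  refine ⟨hcX, hcen, ho4, by rw [← map_mul, hii, map_one], ?_, ?_, ?_⟩
  · -- the centralizer of `f i`
    unfold cc
    set K := centralizer ({f i} : Set X) with hK
    have hfi1 : f i ≠ 1 := by rw [Ne, hmem]; exact hiP
    have hgK : f g ∈ K := mem_centralizer_singleton_iff.2 (hcen _)
    have hiK : f i ∈ K := mem_centralizer_singleton_iff.2 rfl
    have hdesc : ∀ b : X, b ∈ K → ∃ k : ℕ, b = f g ^ k ∨ b = f g ^ k * f i := by
      intro b hb
      obtain ⟨m, rfl⟩ := hf b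
      have h1 : f m * f i = f i * f m := mem_centralizer_singleton_iff.1 hb
      have h2 : m * i * m⁻¹ * i ∈ P := by
        rw [← hmem, map_mul, map_mul, map_mul, map_inv, h1, mul_inv_cancel_right, ← map_mul, hii, map_one]
      obtain ⟨s, hs, hsi⟩ := B.adjust hi h2
      set m' := s⁻¹ * m with hm'
      have hfm : f m' = f m := by
        rw [hm', map_mul, map_inv, (hmem s).2 hs, inv_one, one_mul]
      have h3 : i * (m' * x * m'⁻¹) = m' * x * m'⁻¹ * i := by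
        rw [← mul_inv_eq_iff_eq_mul]
        calc i * (m' * x * m'⁻¹) * i⁻¹ = (i * m') * x * (i * m')⁻¹ := by group
          _ = (m' * i) * x * (m' * i)⁻¹ := by rw [hsi]
          _ = m' * (i * x * i⁻¹) * m'⁻¹ := by group
          _ = _ := by rw [mul_inv_eq_iff_eq_mul.2 hxi]
      obtain ⟨a, ha⟩ := B.fixed hx hx1 hi hxi (B.memc (g := m') hx) h3
      have hex : ∃ k : ℕ, x ^ (2 ^ k) = m' * x * m'⁻¹ := by
        have h4 : a % 5 = 0 ∨ a % 5 = 1 ∨ a % 5 = 2 ∨ a % 5 = 3 ∨ a % 5 = 4 := by omega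
        have h5 : x ^ (a % 5) = m' * x * m'⁻¹ := by rw [ha, ← B.ord hx hx1, pow_mod_orderOf]
        rcases h4 with h | h | h | h | h
        · exfalso
          rw [h, pow_zero] at h5
          apply hx1
          calc x = m'⁻¹ * (m' * x * m'⁻¹) * m' := by group
            _ = 1 := by rw [← h5]; group
        · exact ⟨0, by rw [← h5, h]; rfl⟩
        · exact ⟨1, by rw [← h5, h]; rfl⟩
        · exact ⟨3, by rw [← h5, h]; rw [show 2 ^ 3 = 5 + 3 by norm_num, pow_add, B.exp x hx, one_mul]⟩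
        · exact ⟨2, by rw [← h5, h]; rfl⟩
      obtain ⟨k, hk⟩ := hex
      have h4 : (g ^ k)⁻¹ * m' * x = x * ((g ^ k)⁻¹ * m') := by
        rw [← mul_inv_eq_iff_eq_mul]
        calc (g ^ k)⁻¹ * m' * x * ((g ^ k)⁻¹ * m')⁻¹ = (g ^ k)⁻¹ * (m' * x * m'⁻¹) * g ^ k := by group
          _ = (g ^ k)⁻¹ * (g ^ k * x * (g ^ k)⁻¹) * g ^ k := by rw [← hk, hgk k x hx]
          _ = x := by group
      refine ⟨k, ?_⟩
      rcases B.cases hx hx1 hi hxi h4 with h | h
      · left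
        rw [← hmem, map_mul, map_inv, map_pow, hfm] at h
        exact (inv_mul_eq_one.1 h).symm
      · right
        rw [← hmem, map_mul, map_mul, map_inv, map_pow, hfm, mul_assoc, inv_mul_eq_one] at h
        rw [h, mul_assoc, ← map_mul, hii, map_one, mul_one]
    have hni : ∀ k : ℕ, f i ≠ f g ^ k := by
      intro k hk
      have h1 : (g ^ k)⁻¹ * i ∈ P := by
        rw [← hmem, map_mul, map_inv, map_pow, hk, inv_mul_cancel]
      obtain ⟨p, hp, hne⟩ := B.faith i hi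
      -- `i` acts as `g ^ k`
      have h2 : ∀ q ∈ P, i * q * i⁻¹ = q ^ (2 ^ k) := by
        intro q hq
        have h3 := B.comm _ h1 q hq
        rw [← hgk k q hq]
        calc i * q * i⁻¹ = g ^ k * (((g ^ k)⁻¹ * i) * q) * i⁻¹ := by group
          _ = g ^ k * (q * ((g ^ k)⁻¹ * i)) * i⁻¹ := by rw [h3]
          _ = _ := by group
      have h3 : x ^ (2 ^ k) = x ^ 1 := by rw [← h2 x hx, pow_one, mul_inv_eq_iff_eq_mul.2 hxi]
      have h4 := pow_inj_mod.1 h3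
      rw [B.ord hx hx1] at h4
      apply hne
      rw [← mul_inv_eq_iff_eq_mul, h2 p hp]
      by_cases hp1 : p = 1
      · rw [hp1, one_pow]
      · have h5 : p ^ (2 ^ k) = p ^ 1 := by
          rw [pow_inj_mod, B.ord hp hp1]; exact h4
        rw [h5, pow_one]
    have hidx : ((zpowers (f g)).subgroupOf K).index = 2 := by
      rw [Subgroup.index_eq_two_iff]
      refine ⟨⟨f i, hiK⟩, fun b => ?_⟩
      have hri : f i * f i = 1 := by rw [← map_mul, hii, map_one]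
      rw [mem_subgroupOf, mem_subgroupOf]
      show Xor ((b : X) * f i ∈ zpowers (f g)) ((b : X) ∈ zpowers (f g))
      obtain ⟨k, hk | hk⟩ := hdesc b b.2
      · right
        refine ⟨by rw [hk]; exact pow_mem (mem_zpowers _) k, ?_⟩
        intro h
        rw [hk] at h
        have h1 : f i ∈ zpowers (f g) := ((zpowers (f g)).mul_mem_cancel_left (pow_mem (mem_zpowers _) k)).1 h
        obtain ⟨j, hj⟩ := (mem_zpowers_iff_mem_range_orderOf.1 h1 |> Finset.mem_image.1)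
        exact hni j hj.2.symm
      · left
        refine ⟨by rw [hk, mul_assoc, hri, mul_one]; exact pow_mem (mem_zpowers _) k, ?_⟩
        intro h
        rw [hk] at h
        have h1 : f i ∈ zpowers (f g) := ((zpowers (f g)).mul_mem_cancel_left (pow_mem (mem_zpowers _) k)).1 h
        obtain ⟨j, hj⟩ := (mem_zpowers_iff_mem_range_orderOf.1 h1 |> Finset.mem_image.1)
        exact hni j hj.2.symm
    have h2 := ((zpowers (f g)).subgroupOf K).card_mul_index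
    rw [hidx, Nat.card_congr (Subgroup.subgroupOfEquivOfLe (zpowers_le.2 hgK)).toEquiv, Nat.card_zpowers, ho4] at h2
    exact h2.symm
  · have : Fact (Nat.Prime 3) := ⟨Nat.prime_three⟩
    apply orderOf_eq_prime
    · rw [← map_pow, ← hτ, pow_orderOf_eq_one, map_one]
    · intro h
      apply hker3
      rw [← hτ]
      exact Subgroup.orderOf_dvd_natCard _ (MonoidHom.mem_ker.2 h)
  · intro h8
    apply B.c3 τ hτ
    refine h8.trans ?_
    unfold cc
    have h1 : centralizer ({f τ} : Set X) ≤ (centralizer ({τ} : Set M)).map f := by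
      intro c hc
      obtain ⟨n, hn, rfl⟩ := lift_cent f hf hτ hker3 (mem_centralizer_singleton_iff.1 hc)
      exact ⟨n, mem_centralizer_singleton_iff.2 hn, rfl⟩
    exact (Subgroup.card_dvd_of_le h1).trans (Subgroup.card_map_dvd _ _)

end Base

end Cfsg.Agent.H670.TIx
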