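import Mathlib

/-!
# Local counts for the Tits group at the prime five (helper670, S4819 / S4820, piece (D))

`D48 X ω r t` : `X` has order 48, `ω` is a central element of order 4, `r` an involution with centralizer of order 8, `t`
an element of order 3 whose centralizer has order not divisible by 8.  Then `X` has 14 classes.
-/

set_option autoImplicit false

namespace Cfsg.Agent.H670.TIx

open Subgroup

universe u

/-- the order of the centralizer -/
noncomputable def cc {X : Type u} [Group X] (x : X) : ℕ := Nat.card (centralizer ({x} : Set X))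

/-- Sum of the orders of the centralizers. -/
theorem sum_cent (X : Type u) [Group X] [Fintype X] :
    ∑ x : X, cc x = Nat.card (ConjClasses X) * Nat.card X := by
  rw [← card_comm_eq_card_conjClasses_mul_card]
  unfold cc
  rw [show (∑ x : X, Nat.card (centralizer ({x} : Set X))) = Nat.card (Σ x : X, centralizer ({x} : Set X)) from
    (Nat.card_sigma (β := fun x : X => centralizer ({x} : Set X))).symm]
  refine Nat.card_congr ⟨fun a => ⟨(a.1, (a.2 : X)), (mem_centralizer_singleton_iff.1 a.2.2).symm⟩,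
    fun a => ⟨a.1.1, ⟨a.1.2, mem_centralizer_singleton_iff.2 a.2.symm⟩⟩, fun a => rfl, fun a => rfl⟩

theorem cc_mul {X : Type u} [Group X] {z : X} (h : ∀ y, z * y = y * z) (x : X) : cc (z * x) = cc x := by
  unfold cc
  congr 2
  ext y
  rw [mem_centralizer_singleton_iff, mem_centralizer_singleton_iff]
  constructor
  · intro h1
    rw [← mul_assoc, ← h y, mul_assoc, mul_assoc] at h1
    exact mul_left_cancel h1
  · intro h1
    rw [← mul_assoc, ← h y, mul_assoc, mul_assoc, h1]

theorem cc_conj {X : Type u} [Group X] {x y : X} (h : IsConj x y) : cc x = cc y := by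
  obtain ⟨g, rfl⟩ := isConj_iff.1 h
  unfold cc
  apply Nat.card_congr
  exact
    { toFun := fun c => ⟨g * c * g⁻¹, by
        have h := mem_centralizer_singleton_iff.1 c.2
        rw [mem_centralizer_singleton_iff]
        calc g * c * g⁻¹ * (g * x * g⁻¹) = g * (c * x) * g⁻¹ := by group
          _ = g * (x * c) * g⁻¹ := by rw [h]
          _ = g * x * g⁻¹ * (g * c * g⁻¹) := by group⟩
      invFun := fun c => ⟨g⁻¹ * c * g, by
        have h := mem_centralizer_singleton_iff.1 c.2
        rw [mem_centralizer_singleton_iff]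
        calc g⁻¹ * c * g * x = g⁻¹ * (c * (g * x * g⁻¹)) * g := by group
          _ = g⁻¹ * (g * x * g⁻¹ * c) * g := by rw [h]
          _ = x * (g⁻¹ * c * g) := by group⟩
      left_inv := fun c => Subtype.ext (by show g⁻¹ * (g * (c : X) * g⁻¹) * g = c; group)
      right_inv := fun c => Subtype.ext (by show g * (g⁻¹ * (c : X) * g) * g⁻¹ = c; group) }

theorem cc_inv {X : Type u} [Group X] (x : X) : cc x⁻¹ = cc x := by
  unfold cc
  congr 2
  ext y
  rw [mem_centralizer_singleton_iff, mem_centralizer_singleton_iff]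
  constructor
  · intro h
    have := congrArg (fun w => x * w * x) h
    simp only [mul_assoc, inv_mul_cancel, mul_one, mul_inv_cancel_left] at this
    exact this.symm
  · intro h
    have := congrArg (fun w => x⁻¹ * w * x⁻¹) h
    simp only [mul_assoc, inv_mul_cancel_left, mul_inv_cancel, mul_one] at this
    exact this.symm

open Classical in
theorem card_cls {X : Type u} [Group X] [Fintype X] (x : X) :
    (Finset.univ.filter (fun y : X => IsConj x y)).card * cc x = Nat.card X := by
  unfold cc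
  rw [nat_card_centralizer_nat_card_stabilizer]
  have h1 := (MulAction.stabilizer (ConjAct X) x).index_mul_card
  rw [MulAction.index_stabilizer, ← Nat.card_coe_set_eq] at h1
  have h2 : Nat.card ↥(MulAction.orbit (ConjAct X) x) = (Finset.univ.filter (fun y : X => IsConj x y)).card := by
    rw [← Fintype.card_subtype, ← Nat.card_eq_fintype_card]
    refine Nat.card_congr (Equiv.subtypeEquivRight fun y => ?_)
    rw [ConjAct.mem_orbit_conjAct]
    exact isConj_comm
  rw [h2] at h1
  exact h1

theorem conj_aux {X : Type u} [Group X] {A B c d r : X} (hA : ∀ y, A * y = y * A) (hB : ∀ y, B * y = y * B)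
    (hAA : A * A = 1) (h : A * (d * r * d⁻¹) = B * (c * r * c⁻¹)) :
    (c⁻¹ * d) * r * (c⁻¹ * d)⁻¹ = A * B * r := by
  have h2 : d * r * d⁻¹ = A * (B * (c * r * c⁻¹)) := by rw [← h, ← mul_assoc, hAA, one_mul]
  calc (c⁻¹ * d) * r * (c⁻¹ * d)⁻¹ = c⁻¹ * (d * r * d⁻¹) * c := by group
    _ = c⁻¹ * (A * (B * (c * r * c⁻¹))) * c := by rw [h2]
    _ = A * (c⁻¹ * (B * (c * r * c⁻¹)) * c) := by
        rw [← mul_assoc c⁻¹ A, ← hA c⁻¹, mul_assoc A c⁻¹, mul_assoc A]
    _ = A * (B * (c⁻¹ * (c * r * c⁻¹) * c)) := by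
        rw [← mul_assoc c⁻¹ B, ← hB c⁻¹, mul_assoc B c⁻¹, mul_assoc B]
    _ = A * B * r := by
        have : c⁻¹ * (c * r * c⁻¹) * c = r := by group
        rw [this, mul_assoc]

/-- the data -/
structure D48 (X : Type u) [Group X] (ω r t : X) : Prop where
  card : Nat.card X = 48
  cen : ∀ x : X, ω * x = x * ω
  oω : orderOf ω = 4
  or : r * r = 1
  cr : cc r = 8
  ot : orderOf t = 3
  ct : ¬ 8 ∣ cc t

namespace D48

variable {X : Type u} [Group X] {ω r t : X} (D : D48 X ω r t)

include D

theorem cenp (n : ℕ) (x : X) : ω ^ n * x = x * ω ^ n := (Commute.pow_left (D.cen x) n : Commute (ω ^ n) x).eq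

theorem fin : Finite X := Nat.finite_of_card_ne_zero (by rw [D.card]; norm_num)

theorem dvd {x y : X} (h : y * x = x * y) : orderOf y ∣ cc x := by
  have := D.fin
  exact Subgroup.orderOf_dvd_natCard _ (mem_centralizer_singleton_iff.2 h)

/-- the centralizer of an element of order 3 -/
theorem card_ct : cc t = 12 := by
  have := D.fin
  have h3 : 3 ∣ cc t := D.ot ▸ D.dvd rfl
  have h4 : 4 ∣ cc t := D.oω ▸ D.dvd (D.cen t)
  have h5 : cc t ∣ 48 := D.card ▸ Subgroup.card_subgroup_dvd_card _
  have h6 := D.ct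
  have h7 : cc t ≤ 48 := Nat.le_of_dvd (by norm_num) h5
  interval_cases h : cc t <;> omega

theorem t_mul : t * t * t = 1 := by
  have := pow_orderOf_eq_one t
  rw [D.ot] at this
  rw [← this, pow_succ, pow_succ, pow_one]

theorem card_three {u : X} (hu : orderOf u = 3) : IsConj t u ∨ IsConj t⁻¹ u := by
  classical
  have := D.fin
  have f3 : Fact (Nat.Prime 3) := ⟨Nat.prime_three⟩
  have hs : ∀ v : X, orderOf v = 3 → ∃ P : Sylow 3 X, (P : Subgroup X) = zpowers v := by
    intro v hv
    have hp : IsPGroup 3 (zpowers v) := IsPGroup.of_card (n := 1) (by rw [Nat.card_zpowers, hv, pow_one])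
    have hi : ¬ 3 ∣ (zpowers v).index := by
      have h1 := (zpowers v).card_mul_index
      rw [Nat.card_zpowers, hv, D.card] at h1
      omega
    exact ⟨hp.toSylow hi, rfl⟩
  obtain ⟨P, hP⟩ := hs t D.ot
  obtain ⟨Q, hQ⟩ := hs u hu
  obtain ⟨g, hg⟩ := MulAction.exists_smul_eq X P Q
  have h1 : g * t * g⁻¹ ∈ ((g • P : Sylow 3 X) : Subgroup X) := by
    rw [Sylow.coe_subgroup_smul, hP]
    exact Subgroup.smul_mem_pointwise_smul _ _ _ (mem_zpowers t)
  rw [hg, hQ] at h1
  obtain ⟨k, hk, hk'⟩ : ∃ k < 3, u ^ k = g * t * g⁻¹ := by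
    obtain ⟨k, hk⟩ := (mem_zpowers_iff_mem_range_orderOf.1 h1 |> Finset.mem_image.1)
    rw [hu] at hk
    exact ⟨k, Finset.mem_range.1 hk.1, hk.2⟩
  have hu3 : u ^ 3 = 1 := hu ▸ pow_orderOf_eq_one u
  interval_cases k
  · exfalso
    rw [pow_zero] at hk'
    have : t = 1 := by
      have : t = g⁻¹ * (g * t * g⁻¹) * g := by group
      rw [this, ← hk']; group
    have h2 := D.ot
    rw [this, orderOf_one] at h2
    omega
  · left
    rw [pow_one] at hk'
    exact isConj_iff.2 ⟨g, hk'.symm⟩
  · right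
    refine isConj_iff.2 ⟨g, ?_⟩
    have : g * t⁻¹ * g⁻¹ = (g * t * g⁻¹)⁻¹ := by group
    rw [this, ← hk']
    have h2 : u * u ^ 2 = 1 := by rw [← hu3]; group
    exact (eq_inv_of_mul_eq_one_left h2).symm

theorem cc_three {u : X} (hu : orderOf u = 3) : cc u = 12 := by
  rcases D.card_three hu with h | h
  · rw [← cc_conj h, D.card_ct]
  · rw [← cc_conj h, cc_inv, D.card_ct]

/-- `t` is not conjugate to its inverse -/
theorem not_real : ¬ IsConj t t⁻¹ := by
  have := D.fin
  have f3 : Fact (Nat.Prime 3) := ⟨Nat.prime_three⟩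
  classical
  intro hc
  obtain ⟨g, hg⟩ := isConj_iff.1 hc
  have hp : IsPGroup 3 (zpowers t) := IsPGroup.of_card (n := 1) (by rw [Nat.card_zpowers, D.ot, pow_one])
  have hi : ¬ 3 ∣ (zpowers t).index := by
    have h1 := (zpowers t).card_mul_index
    rw [Nat.card_zpowers, D.ot, D.card] at h1
    omega
  let P : Sylow 3 X := hp.toSylow hi
  have h1 := card_sylow_modEq_one 3 X
  rw [P.card_eq_index_normalizer] at h1
  set N := normalizer ((P : Subgroup X) : Set X) with hN
  have hmem : ∀ x : X, x * t * x⁻¹ ∈ zpowers t → x ∈ N := by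
    intro x hx
    rw [hN]
    have h2 : zpowers (x * t * x⁻¹) ≤ zpowers t := zpowers_le.2 hx
    have h3 : (zpowers t).map (MulAut.conj x).toMonoidHom = zpowers t := by
      apply Subgroup.eq_of_le_of_card_ge
      · rw [MonoidHom.map_zpowers]; exact h2
      · rw [Nat.card_congr ((zpowers t).equivMapOfInjective (MulAut.conj x).toMonoidHom (MulAut.conj x).injective).toEquiv]
    rw [mem_normalizer_iff]
    intro y
    constructor
    · intro hy
      have : x * y * x⁻¹ ∈ (zpowers t).map (MulAut.conj x).toMonoidHom := ⟨y, hy, rfl⟩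
      rw [h3] at this
      exact this
    · intro hy
      have hy' : x * y * x⁻¹ ∈ (zpowers t).map (MulAut.conj x).toMonoidHom := by rw [h3]; exact hy
      obtain ⟨w, hw, hw'⟩ := hy'
      have hw2 : x * w * x⁻¹ = x * y * x⁻¹ := hw'
      have : w = y := by
        have := congrArg (fun v => x⁻¹ * v * x) hw2
        simpa [mul_assoc] using this
      rw [← this]; exact hw
  have hgN : g ∈ N := hmem g (by rw [hg]; exact inv_mem (mem_zpowers t))
  have hCN : centralizer ({t} : Set X) ≤ N := by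
    intro x hx
    apply hmem
    rw [mem_centralizer_singleton_iff.1 hx, mul_inv_cancel_right]
    exact mem_zpowers t
  have hgC : g ∉ centralizer ({t} : Set X) := by
    intro h
    rw [mem_centralizer_singleton_iff.1 h, mul_inv_cancel_right] at hg
    have h2 : t * t = 1 := by nth_rw 1 [hg]; rw [inv_mul_cancel]
    have h3 := D.t_mul
    rw [h2, one_mul] at h3
    have h4 := D.ot
    rw [h3, orderOf_one] at h4
    omega
  have h12 := D.card_ct
  unfold cc at h12
  have h2 : 12 ∣ Nat.card N := by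
    rw [← h12]; exact Subgroup.card_dvd_of_le hCN
  have h3 : Nat.card N ≠ 12 := by
    intro h
    have : centralizer ({t} : Set X) = N := Subgroup.eq_of_le_of_card_ge hCN (by rw [h, h12])
    exact hgC (this ▸ hgN)
  have h4 := N.card_mul_index
  rw [D.card] at h4
  obtain ⟨c, hc⟩ := h2
  rw [hc] at h4 h3
  have h5 : c * N.index = 4 := by nlinarith
  have h6 : N.index ∣ 4 := ⟨c, by rw [mul_comm]; exact h5.symm⟩
  have h7 : N.index ≤ 4 := Nat.le_of_dvd (by norm_num) h6
  have h8 : N.index % 3 = 1 := h1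
  interval_cases h9 : N.index
  · omega
  · have h10 : N = ⊤ := Subgroup.index_eq_one.1 h9
    have := Fintype.ofFinite X
    have h11 := card_cls t
    have h13 : (Finset.univ.filter (fun y : X => IsConj t y)).card ≤ 2 := by
      refine (Finset.card_le_card (t := {t, t⁻¹}) ?_).trans Finset.card_le_two
      intro y hy
      obtain ⟨x, hx⟩ := isConj_iff.1 (Finset.mem_filter.1 hy).2
      have hxN : x ∈ N := by rw [h10]; exact mem_top x
      have hy2 : y ∈ zpowers t := by
        rw [← hx]
        exact (mem_normalizer_iff.1 hxN t).1 (mem_zpowers t)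
      obtain ⟨k, hk⟩ := (mem_zpowers_iff_mem_range_orderOf.1 hy2 |> Finset.mem_image.1)
      rw [D.ot] at hk
      have hk3 := Finset.mem_range.1 hk.1
      have hk2 := hk.2
      rw [Finset.mem_insert, Finset.mem_singleton]
      interval_cases k
      · exfalso
        rw [pow_zero] at hk2
        rw [← hk2] at hx
        have : t = 1 := by
          have : t = x⁻¹ * (x * t * x⁻¹) * x := by group
          rw [this, hx]; group
        have h2 := D.ot
        rw [this, orderOf_one] at h2
        omega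
      · left; rw [← hk2, pow_one]
      · right; rw [← hk2, pow_two]; exact eq_inv_of_mul_eq_one_left D.t_mul
    rw [D.card_ct, D.card] at h11
    omega
  · omega
  · omega
  · omega

section count

open Classical

variable [Fintype X]

/-- the elements with centralizer of order `c` -/
noncomputable def FF (X : Type u) [Group X] [Fintype X] (c : ℕ) : Finset X := Finset.univ.filter (fun x => cc x = c)

omit D in
theorem mem_FF {c : ℕ} {x : X} : x ∈ FF X c ↔ cc x = c := by simp [FF]

omit [Fintype X] in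
theorem pow_inj {m n : ℕ} (hm : m < 4) (hn : n < 4) (h : ω ^ m = ω ^ n) : m = n :=
  pow_injOn_Iio_orderOf (by simpa [D.oω] using hm) (by simpa [D.oω] using hn) h

theorem le48 : 4 ≤ (FF X 48).card := by
  have h1 : (Finset.univ.image (fun n : Fin 4 => ω ^ (n : ℕ))).card = 4 := by
    rw [Finset.card_image_of_injective _ (fun a b h => Fin.ext (D.pow_inj a.2 b.2 h)), Finset.card_univ, Fintype.card_fin]
  rw [← h1]
  apply Finset.card_le_card
  intro x hx
  obtain ⟨n, -, rfl⟩ := Finset.mem_image.1 hx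
  rw [mem_FF]
  have h2 := cc_mul (D.cenp n) (1 : X)
  rw [mul_one] at h2
  rw [h2, ← D.card]
  have h3 := card_cls (1 : X)
  have h4 : (Finset.univ.filter (fun y : X => IsConj 1 y)).card = 1 := by
    rw [Finset.card_eq_one]
    refine ⟨1, ?_⟩
    ext y
    simp
    exact eq_comm
  rw [h4, one_mul] at h3
  exact h3

/-- the elements of order three -/
noncomputable def S3 (t : X) : Finset X :=
  Finset.univ.filter (fun y : X => IsConj t y) ∪ Finset.univ.filter (fun y : X => IsConj t⁻¹ y)

theorem ord_S3 {u : X} (hu : u ∈ S3 t) : orderOf u = 3 := by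
  rcases Finset.mem_union.1 hu with h | h
  · obtain ⟨g, hg⟩ := isConj_iff.1 (Finset.mem_filter.1 h).2
    rw [← hg, ← MulAut.conj_apply, MulEquiv.orderOf_eq, D.ot]
  · obtain ⟨g, hg⟩ := isConj_iff.1 (Finset.mem_filter.1 h).2
    rw [← hg, ← MulAut.conj_apply, MulEquiv.orderOf_eq, orderOf_inv, D.ot]

theorem card_S3 : (S3 t).card = 8 := by
  have h1 := card_cls t
  have h2 := card_cls t⁻¹
  rw [D.card_ct, D.card] at h1
  rw [cc_inv, D.card_ct, D.card] at h2
  unfold S3
  rw [Finset.card_union_of_disjoint]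
  · omega
  · rw [Finset.disjoint_left]
    intro a ha hb
    exact D.not_real ((Finset.mem_filter.1 ha).2.trans (Finset.mem_filter.1 hb).2.symm)

theorem le12 : 32 ≤ (FF X 12).card := by
  have h1 : (((Finset.univ : Finset (Fin 4)) ×ˢ S3 t).image (fun a => ω ^ (a.1 : ℕ) * a.2)).card = 32 := by
    rw [Finset.card_image_of_injOn, Finset.card_product, D.card_S3, Finset.card_univ, Fintype.card_fin]
    rintro ⟨m, u⟩ hu ⟨n, v⟩ hv h
    have hu' := D.ord_S3 (Finset.mem_product.1 (Finset.mem_coe.1 hu)).2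
    have hv' := D.ord_S3 (Finset.mem_product.1 (Finset.mem_coe.1 hv)).2
    have h' : ω ^ (m : ℕ) * u = ω ^ (n : ℕ) * v := h
    have hp : ∀ (k : ℕ) (w : X), orderOf w = 3 → (ω ^ k * w) ^ 4 = w := by
      intro k w hw
      have hc : Commute (ω ^ k) w := D.cenp k w
      rw [hc.mul_pow, ← pow_mul, mul_comm k 4, pow_mul]
      have h4 : ω ^ 4 = 1 := D.oω ▸ pow_orderOf_eq_one ω
      have h3 : w ^ 3 = 1 := hw ▸ pow_orderOf_eq_one w
      rw [h4, one_pow, one_mul, pow_succ, h3, one_mul]
    have huv : u = v := by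
      rw [← hp m u hu', ← hp n v hv', h']
    subst huv
    have h5 := D.pow_inj m.2 n.2 (mul_right_cancel h')
    rw [Fin.ext h5]
  rw [← h1]
  apply Finset.card_le_card
  intro x hx
  obtain ⟨⟨n, u⟩, hu, rfl⟩ := Finset.mem_image.1 hx
  rw [mem_FF]
  show cc (ω ^ (n : ℕ) * u) = 12
  rw [cc_mul (D.cenp n) u]
  exact D.cc_three (D.ord_S3 (Finset.mem_product.1 hu).2)

omit [Fintype X] in
theorem sq_ne : ω * ω ≠ 1 := by
  intro h
  have h1 : orderOf ω ∣ 2 := orderOf_dvd_of_pow_eq_one (by rw [pow_two, h])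
  rw [D.oω] at h1
  omega

theorem le8 : 12 ≤ (FF X 8).card := by
  have h6 : (Finset.univ.filter (fun y : X => IsConj r y)).card = 6 := by
    have h := card_cls r
    rw [D.cr, D.card] at h
    omega
  have h1 : (Finset.univ.filter (fun y : X => IsConj r y) ∪
      (Finset.univ.filter (fun y : X => IsConj r y)).image (fun y => ω * y)).card = 12 := by
    rw [Finset.card_union_of_disjoint, Finset.card_image_of_injective _ (mul_right_injective ω), h6]
    rw [Finset.disjoint_left]
    intro a ha hb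
    obtain ⟨b, hb', rfl⟩ := Finset.mem_image.1 hb
    have hsq : ∀ y : X, IsConj r y → y * y = 1 := by
      intro y hy
      obtain ⟨g, rfl⟩ := isConj_iff.1 hy
      have : g * r * g⁻¹ * (g * r * g⁻¹) = g * (r * r) * g⁻¹ := by group
      rw [this, D.or]; group
    have h2 := hsq _ (Finset.mem_filter.1 ha).2
    have h3 := hsq _ (Finset.mem_filter.1 hb').2
    have h4 : ω * b * (ω * b) = ω * ω * (b * b) := by
      rw [mul_assoc, ← mul_assoc b, ← D.cen b, mul_assoc, mul_assoc]
    rw [h4, h3, mul_one] at h2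
    exact D.sq_ne h2
  rw [← h1]
  apply Finset.card_le_card
  intro x hx
  rw [mem_FF]
  rcases Finset.mem_union.1 hx with h | h
  · rw [← cc_conj (Finset.mem_filter.1 h).2, D.cr]
  · obtain ⟨b, hb, rfl⟩ := Finset.mem_image.1 h
    rw [cc_mul D.cen b, ← cc_conj (Finset.mem_filter.1 hb).2, D.cr]

omit D in
theorem disj {a b : ℕ} (h : a ≠ b) : Disjoint (FF X a) (FF X b) := by
  rw [Finset.disjoint_left]
  intro x hx hy
  exact h ((mem_FF.1 hx).symm.trans (mem_FF.1 hy))

theorem parts : (FF X 48).card = 4 ∧ (FF X 12).card = 32 ∧ (FF X 8).card = 12 ∧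
    FF X 48 ∪ FF X 12 ∪ FF X 8 = Finset.univ := by
  have h1 := D.le48
  have h2 := D.le12
  have h3 := D.le8
  have h4 : (FF X 48 ∪ FF X 12 ∪ FF X 8).card = (FF X 48).card + (FF X 12).card + (FF X 8).card := by
    rw [Finset.card_union_of_disjoint, Finset.card_union_of_disjoint (disj (by norm_num))]
    rw [Finset.disjoint_union_left]
    exact ⟨disj (by norm_num), disj (by norm_num)⟩
  have h5 : (FF X 48 ∪ FF X 12 ∪ FF X 8).card ≤ 48 := by
    rw [← D.card, Nat.card_eq_fintype_card]
    exact Finset.card_le_univ _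
  refine ⟨by omega, by omega, by omega, ?_⟩
  apply Finset.eq_univ_of_card
  rw [← Nat.card_eq_fintype_card, D.card]
  omega

theorem cc_cases (x : X) : cc x = 48 ∨ cc x = 12 ∨ cc x = 8 := by
  have h := D.parts.2.2.2
  have h1 : x ∈ FF X 48 ∪ FF X 12 ∪ FF X 8 := by rw [h]; exact Finset.mem_univ x
  simp only [Finset.mem_union, mem_FF] at h1
  tauto

theorem sum_eq (f : ℕ → ℕ) : ∑ x : X, f (cc x) = 4 * f 48 + 32 * f 12 + 12 * f 8 := by
  obtain ⟨h1, h2, h3, h4⟩ := D.parts
  rw [← h4, Finset.sum_union, Finset.sum_union (disj (by norm_num))]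
  · rw [Finset.sum_congr rfl (fun x hx => by rw [mem_FF.1 hx] : ∀ x ∈ FF X 48, f (cc x) = f 48),
      Finset.sum_congr rfl (fun x hx => by rw [mem_FF.1 hx] : ∀ x ∈ FF X 12, f (cc x) = f 12),
      Finset.sum_congr rfl (fun x hx => by rw [mem_FF.1 hx] : ∀ x ∈ FF X 8, f (cc x) = f 8)]
    simp only [Finset.sum_const, h1, h2, h3, smul_eq_mul]
  · rw [Finset.disjoint_union_left]
    exact ⟨disj (by norm_num), disj (by norm_num)⟩

theorem mem48 {x : X} (h : cc x = 48) : ∃ n : ℕ, x = ω ^ n := by
  have h1 : (Finset.univ.image (fun n : Fin 4 => ω ^ (n : ℕ))) = FF X 48 := by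
    apply Finset.eq_of_subset_of_card_le
    · intro x hx
      obtain ⟨n, -, rfl⟩ := Finset.mem_image.1 hx
      rw [mem_FF]
      have h2 := cc_mul (D.cenp n) (1 : X)
      rw [mul_one] at h2
      rw [h2]
      have h3 := cc_mul (D.cenp 0) (1 : X)
      obtain ⟨y, hy⟩ : ∃ y : X, cc y = 48 := ⟨x, h⟩
      obtain ⟨z, hz⟩ := Finset.card_pos.1 (lt_of_lt_of_le (by norm_num) D.le48 : 0 < (FF X 48).card)
      have h5 : cc (1 : X) = Nat.card X := by
        unfold cc
        have : centralizer ({1} : Set X) = ⊤ := by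
          ext y
          simp [mem_centralizer_singleton_iff]
        rw [this, Subgroup.card_top]
      rw [h5, D.card]
    · rw [D.parts.1, Finset.card_image_of_injective _ (fun a b h => Fin.ext (D.pow_inj a.2 b.2 h)), Finset.card_univ,
        Fintype.card_fin]
  obtain ⟨n, -, hn⟩ := Finset.mem_image.1 (h1 ▸ mem_FF.2 h)
  exact ⟨n, hn.symm⟩

omit [Fintype X] in
theorem pow_four {k : ℕ} {w : X} (hw : orderOf w = 3) : (ω ^ k * w) ^ 4 = w := by
  have hc : Commute (ω ^ k) w := D.cenp k w
  rw [hc.mul_pow, ← pow_mul, mul_comm k 4, pow_mul]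
  have h4 : ω ^ 4 = 1 := D.oω ▸ pow_orderOf_eq_one ω
  have h3 : w ^ 3 = 1 := hw ▸ pow_orderOf_eq_one w
  rw [h4, one_pow, one_mul, pow_succ, h3, one_mul]

theorem mem12 {x : X} (h : cc x = 12) : ∃ (n : ℕ) (u : X), orderOf u = 3 ∧ x = ω ^ n * u := by
  have h1 : (((Finset.univ : Finset (Fin 4)) ×ˢ S3 t).image (fun a => ω ^ (a.1 : ℕ) * a.2)) = FF X 12 := by
    apply Finset.eq_of_subset_of_card_le
    · intro x hx
      obtain ⟨⟨n, u⟩, hu, rfl⟩ := Finset.mem_image.1 hx
      rw [mem_FF]
      show cc (ω ^ (n : ℕ) * u) = 12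
      rw [cc_mul (D.cenp n) u]
      exact D.cc_three (D.ord_S3 (Finset.mem_product.1 hu).2)
    · rw [D.parts.2.1, Finset.card_image_of_injOn, Finset.card_product, D.card_S3, Finset.card_univ, Fintype.card_fin]
      rintro ⟨m, u⟩ hu ⟨n, v⟩ hv h
      have hu' : orderOf u = 3 := D.ord_S3 (Finset.mem_product.1 (Finset.mem_coe.1 hu)).2
      have hv' : orderOf v = 3 := D.ord_S3 (Finset.mem_product.1 (Finset.mem_coe.1 hv)).2
      have h' : ω ^ (m : ℕ) * u = ω ^ (n : ℕ) * v := h
      have huv : u = v := by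
        rw [← D.pow_four (k := m) hu', ← D.pow_four (k := n) hv', h']
      subst huv
      have h5 := D.pow_inj m.2 n.2 (mul_right_cancel h')
      rw [Fin.ext h5]
  obtain ⟨⟨n, u⟩, hu, hn⟩ := Finset.mem_image.1 (h1 ▸ mem_FF.2 h)
  exact ⟨n, u, D.ord_S3 (Finset.mem_product.1 hu).2, hn.symm⟩

theorem mem8 {x : X} (h : cc x = 8) : ∃ (n : ℕ) (y : X), (n = 0 ∨ n = 1) ∧ IsConj r y ∧ x = ω ^ n * y := by
  have h6 : (Finset.univ.filter (fun y : X => IsConj r y)).card = 6 := by
    have h := card_cls r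
    rw [D.cr, D.card] at h
    omega
  have hsq : ∀ y : X, IsConj r y → y * y = 1 := by
    intro y hy
    obtain ⟨g, rfl⟩ := isConj_iff.1 hy
    have : g * r * g⁻¹ * (g * r * g⁻¹) = g * (r * r) * g⁻¹ := by group
    rw [this, D.or]; group
  have h1 : (Finset.univ.filter (fun y : X => IsConj r y) ∪
      (Finset.univ.filter (fun y : X => IsConj r y)).image (fun y => ω * y)) = FF X 8 := by
    apply Finset.eq_of_subset_of_card_le
    · intro x hx
      rw [mem_FF]
      rcases Finset.mem_union.1 hx with h | h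
      · rw [← cc_conj (Finset.mem_filter.1 h).2, D.cr]
      · obtain ⟨b, hb, rfl⟩ := Finset.mem_image.1 h
        rw [cc_mul D.cen b, ← cc_conj (Finset.mem_filter.1 hb).2, D.cr]
    · rw [D.parts.2.2.1, Finset.card_union_of_disjoint, Finset.card_image_of_injective _ (mul_right_injective ω), h6]
      rw [Finset.disjoint_left]
      intro a ha hb
      obtain ⟨b, hb', rfl⟩ := Finset.mem_image.1 hb
      have h2 := hsq _ (Finset.mem_filter.1 ha).2
      have h3 := hsq _ (Finset.mem_filter.1 hb').2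
      have h4 : ω * b * (ω * b) = ω * ω * (b * b) := by
        rw [mul_assoc, ← mul_assoc b, ← D.cen b, mul_assoc, mul_assoc]
      rw [h4, h3, mul_one] at h2
      exact D.sq_ne h2
  rcases Finset.mem_union.1 (h1 ▸ mem_FF.2 h : x ∈ _ ∪ _) with h | h
  · exact ⟨0, x, Or.inl rfl, (Finset.mem_filter.1 h).2, by rw [pow_zero, one_mul]⟩
  · obtain ⟨b, hb, rfl⟩ := Finset.mem_image.1 h
    exact ⟨1, b, Or.inr rfl, (Finset.mem_filter.1 hb).2, by rw [pow_one]⟩

end count

theorem sq_conj {y : X} (hy : IsConj r y) : y * y = 1 := by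
  obtain ⟨g, rfl⟩ := isConj_iff.1 hy
  have : g * r * g⁻¹ * (g * r * g⁻¹) = g * (r * r) * g⁻¹ := by group
  rw [this, D.or]; group

theorem conj_of {y : X} (h8 : cc y = 8) (h1 : y * y = 1) : IsConj r y := by
  have := D.fin
  have := Fintype.ofFinite X
  obtain ⟨n, x, hn, hx, rfl⟩ := D.mem8 h8
  rcases hn with rfl | rfl
  · rwa [pow_zero, one_mul]
  · exfalso
    rw [pow_one] at h1
    have h4 : ω * x * (ω * x) = ω * ω * (x * x) := by
      rw [mul_assoc, ← mul_assoc x, ← D.cen x, mul_assoc, mul_assoc]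
    rw [h4, D.sq_conj hx, mul_one] at h1
    exact D.sq_ne h1

/-- an element of order 3 does not commute with a conjugate of `r` -/
theorem not_comm {u y : X} (hu : orderOf u = 3) (hy : IsConj r y) : u * y ≠ y * u := by
  intro h
  have h1 := D.dvd h
  rw [← cc_conj hy, D.cr, hu] at h1
  omega

theorem sgn (y : X) : ω * ω * y = y * (ω * ω) := by
  rw [mul_assoc, D.cen y, ← mul_assoc, D.cen y, mul_assoc]

theorem sgn_sq : ω * ω * (ω * ω) = 1 := by
  have h4 : ω ^ 4 = 1 := D.oω ▸ pow_orderOf_eq_one ω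
  rw [← h4]
  simp only [pow_succ, pow_zero, one_mul, mul_assoc]

theorem not_sgn {w e : X} (hw : orderOf w = 3) (he : e = 1 ∨ e = ω * ω) : w * r * w⁻¹ ≠ e * r := by
  intro h
  have hc : ∀ y : X, e * y = y * e := by
    intro y
    rcases he with rfl | rfl
    · rw [one_mul, mul_one]
    · exact D.sgn y
  have hee : e * e = 1 := by
    rcases he with rfl | rfl
    · rw [one_mul]
    · exact D.sgn_sq
  have h3 : w ^ 3 = 1 := hw ▸ pow_orderOf_eq_one w
  have h1 : w * (e * r) * w⁻¹ = e * (e * r) := by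
    rw [← h]
    calc w * (w * r * w⁻¹) * w⁻¹ = w * (w * r * w⁻¹) * w⁻¹ := rfl
      _ = w * (e * r) * w⁻¹ := by rw [h]
      _ = e * (w * r * w⁻¹) := by rw [← mul_assoc, ← hc w]; simp only [mul_assoc]
      _ = e * (w * r * w⁻¹) := rfl
  have h2 : w * (e * r) * w⁻¹ = e * (w * r * w⁻¹) := by rw [← mul_assoc, ← hc w]; simp only [mul_assoc]
  have h4 : r = e * r := by
    have h5 : w ^ 3 * r * (w ^ 3)⁻¹ = w * (w * (w * r * w⁻¹) * w⁻¹) * w⁻¹ := by
      simp only [pow_succ, pow_zero, one_mul, mul_inv_rev, mul_assoc]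
    rw [h3, h, h2, h, ← mul_assoc e e, hee, one_mul, h] at h5
    simpa using h5
  have h6 : e = 1 := by
    have := congrArg (fun y => y * r⁻¹) h4
    simpa using this.symm
  rw [h6, one_mul] at h
  refine D.not_comm hw (IsConj.refl r) ?_
  have := congrArg (fun y => y * w) h
  simpa using this

/-- the six conjugates of `r` -/
theorem cls_form {u y : X} (hu : orderOf u = 3) (hy : IsConj r y) :
    ∃ i : ℕ, ∃ e : X, (e = 1 ∨ e = ω * ω) ∧ y = e * (u ^ i * r * (u ^ i)⁻¹) := by
  classical
  have := D.fin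
  have := Fintype.ofFinite X
  have h6 : (Finset.univ.filter (fun y : X => IsConj r y)).card = 6 := by
    have h := card_cls r
    rw [D.cr, D.card] at h
    omega
  have hu3 : u ^ 3 = 1 := hu ▸ pow_orderOf_eq_one u
  have hr8 : IsConj r (ω * ω * r) := by
    apply D.conj_of
    · rw [cc_mul D.sgn, D.cr]
    · have : ω * ω * r * (ω * ω * r) = ω * ω * (ω * ω) * (r * r) := by
        rw [mul_assoc (ω * ω) r, ← mul_assoc r, ← D.sgn r, mul_assoc (ω * ω) r, ← mul_assoc (ω * ω) (ω * ω)]
      rw [this, D.sgn_sq, D.or, one_mul]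
  have hinj : Function.Injective (fun a : Bool × Fin 3 =>
      (if a.1 then ω * ω else 1) * (u ^ (a.2 : ℕ) * r * (u ^ (a.2 : ℕ))⁻¹)) := by
    rintro ⟨a, i⟩ ⟨b, j⟩ h
    have h' : (if a then ω * ω else 1) * (u ^ (i : ℕ) * r * (u ^ (i : ℕ))⁻¹) =
      (if b then ω * ω else 1) * (u ^ (j : ℕ) * r * (u ^ (j : ℕ))⁻¹) := h
    have hce : ∀ (a : Bool) (y : X), (if a then ω * ω else 1) * y = y * (if a then ω * ω else 1) := by
      intro a y
      cases a
      · simp
      · simpa using D.sgn y
    have hee : ∀ (a : Bool), (if a then ω * ω else 1) * (if a then ω * ω else 1) = (1 : X) := by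
      intro a
      cases a
      · simp
      · simpa using D.sgn_sq
    have h1 : ((u ^ (j : ℕ))⁻¹ * u ^ (i : ℕ)) * r * ((u ^ (j : ℕ))⁻¹ * u ^ (i : ℕ))⁻¹ =
        ((if a then ω * ω else 1) * (if b then ω * ω else 1)) * r :=
      conj_aux (hce a) (hce b) (hee a) h'
    have hw3 : ((u ^ (j : ℕ))⁻¹ * u ^ (i : ℕ)) ^ 3 = 1 := by
      have hc : Commute (u ^ (j : ℕ))⁻¹ (u ^ (i : ℕ)) := ((Commute.refl u).pow_pow _ _).inv_left
      rw [hc.mul_pow, inv_pow, ← pow_mul, ← pow_mul, mul_comm (j : ℕ), mul_comm (i : ℕ), pow_mul, pow_mul, hu3, one_pow,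
        one_pow, inv_one, one_mul]
    by_cases hw : (u ^ (j : ℕ))⁻¹ * u ^ (i : ℕ) = 1
    · have h3 : u ^ (i : ℕ) = u ^ (j : ℕ) := by
        have := congrArg (fun y => u ^ (j : ℕ) * y) hw
        simpa using this
      have h4 : (i : ℕ) = j := pow_injOn_Iio_orderOf (by simp [hu]) (by simp [hu]) h3
      have h5 : i = j := Fin.ext h4
      subst h5
      have h6 := mul_right_cancel h'
      have h7 : a = b := by
        cases a <;> cases b
        · rfl
        · exact absurd (by simpa using h6.symm) D.sq_ne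
        · exact absurd (by simpa using h6) D.sq_ne
        · rfl
      rw [h7]
    · exfalso
      have hwo : orderOf ((u ^ (j : ℕ))⁻¹ * u ^ (i : ℕ)) = 3 := by
        have : Fact (Nat.Prime 3) := ⟨Nat.prime_three⟩
        exact orderOf_eq_prime hw3 hw
      refine D.not_sgn hwo ?_ h1
      cases a <;> cases b
      · left; simp
      · right; simp
      · right; simp
      · left; simpa using D.sgn_sq
  have himg : Finset.univ.image (fun a : Bool × Fin 3 =>
      (if a.1 then ω * ω else 1) * (u ^ (a.2 : ℕ) * r * (u ^ (a.2 : ℕ))⁻¹)) =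
      Finset.univ.filter (fun y : X => IsConj r y) := by
    apply Finset.eq_of_subset_of_card_le
    · intro x hx
      obtain ⟨⟨a, i⟩, -, rfl⟩ := Finset.mem_image.1 hx
      rw [Finset.mem_filter]
      refine ⟨Finset.mem_univ _, ?_⟩
      show IsConj r ((if a then ω * ω else 1) * (u ^ (i : ℕ) * r * (u ^ (i : ℕ))⁻¹))
      cases a
      · simp only [Bool.false_eq_true, if_false, one_mul]
        exact isConj_iff.2 ⟨_, rfl⟩
      · simp only [if_true]
        refine hr8.trans (isConj_iff.2 ⟨u ^ (i : ℕ), ?_⟩)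
        rw [← mul_assoc, ← D.sgn]
        simp only [mul_assoc]
    · rw [h6, Finset.card_image_of_injective _ hinj]
      decide
  have h7 : y ∈ Finset.univ.filter (fun y : X => IsConj r y) := by
    rw [Finset.mem_filter]; exact ⟨Finset.mem_univ _, hy⟩
  rw [← himg] at h7
  obtain ⟨⟨a, i⟩, -, h8⟩ := Finset.mem_image.1 h7
  refine ⟨i, if a then ω * ω else 1, ?_, h8.symm⟩
  cases a <;> simp

/-- **`k(X) = 14`** -/
theorem card_classes : Nat.card (ConjClasses X) = 14 := by
  have := D.fin
  have := Fintype.ofFinite X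
  have h := sum_cent X
  rw [D.sum_eq (fun x => x), D.card] at h
  omega

end D48

end Cfsg.Agent.H670.TIx
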