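import Cfsg.Agent.H670.TIx.Loc48

/-!
# Local counts for `²F₄(2)` at the prime five (helper670, S4819 / S4820, piece (D))
-/

set_option autoImplicit false

namespace Cfsg.Agent.H670.TIx

open Subgroup

universe u

section two

open Classical

variable {Y : Type u} [Group Y] [Fintype Y] (X : Subgroup Y)

/-- number of elements of `X` commuting with `y` -/
noncomputable def nin (y : Y) : ℕ := (Finset.univ.filter (fun x : Y => x ∈ X ∧ x * y = y * x)).card

/-- number of elements outside `X` commuting with `y` -/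
noncomputable def nout (y : Y) : ℕ := (Finset.univ.filter (fun x : Y => x ∉ X ∧ x * y = y * x)).card

theorem cc_eq (y : Y) : cc y = nin X y + nout X y := by
  unfold cc nin nout
  rw [← Finset.card_union_of_disjoint]
  · rw [Nat.card_eq_fintype_card, Fintype.card_subtype]
    congr 1
    ext x
    simp only [Finset.mem_filter, Finset.mem_union, Finset.mem_univ, true_and, mem_centralizer_singleton_iff]
    tauto
  · rw [Finset.disjoint_left]
    intro a ha hb
    exact (Finset.mem_filter.1 hb).2.1 (Finset.mem_filter.1 ha).2.1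

theorem cc_sub (x : X) : cc x = nin X (x : Y) := by
  unfold cc nin
  rw [← Fintype.card_subtype, ← Nat.card_eq_fintype_card]
  refine Nat.card_congr ⟨fun a => ⟨(a.1 : Y), a.1.2, ?_⟩, fun a => ⟨⟨a.1, a.2.1⟩, ?_⟩, fun a => rfl, fun a => rfl⟩
  · have := mem_centralizer_singleton_iff.1 a.2
    exact congrArg Subtype.val this
  · rw [mem_centralizer_singleton_iff]
    exact Subtype.ext a.2.2

/-- the elements commuting with `y ∉ X` -/
theorem nin_eq_nout (h : X.index = 2) {y : Y} (hy : y ∉ X) : nin X y = nout X y := by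
  unfold nin nout
  apply Finset.card_bij (fun x _ => y * x)
  · intro x hx
    have hx' := (Finset.mem_filter.1 hx).2
    rw [Finset.mem_filter]
    refine ⟨Finset.mem_univ _, ?_, ?_⟩
    · intro h1
      exact hy ((X.mul_mem_cancel_right hx'.1).1 h1)
    · rw [mul_assoc, hx'.2]
  · intro a _ b _ h1
    exact mul_left_cancel h1
  · intro b hb
    have hb' := (Finset.mem_filter.1 hb).2
    refine ⟨y⁻¹ * b, ?_, by group⟩
    rw [Finset.mem_filter]
    refine ⟨Finset.mem_univ _, ?_, ?_⟩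
    · rw [Subgroup.mul_mem_iff_of_index_two h]
      exact ⟨fun h1 => absurd (X.inv_mem_iff.1 h1) hy, fun h1 => absurd h1 hb'.1⟩
    · rw [mul_assoc, hb'.2]; group

theorem swap_sum : ∑ y ∈ Finset.univ.filter (fun y : Y => y ∉ X), nin X y =
    ∑ x ∈ Finset.univ.filter (fun y : Y => y ∈ X), nout X x := by
  have h1 : ∀ y : Y, nin X y = ∑ x ∈ Finset.univ.filter (fun y : Y => y ∈ X), if x * y = y * x then 1 else 0 := by
    intro y
    unfold nin
    rw [Finset.card_eq_sum_ones, Finset.sum_ite, Finset.sum_const_zero, add_zero, Finset.filter_filter]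
  have h2 : ∀ y : Y, nout X y = ∑ x ∈ Finset.univ.filter (fun y : Y => y ∉ X), if x * y = y * x then 1 else 0 := by
    intro y
    unfold nout
    rw [Finset.card_eq_sum_ones, Finset.sum_ite, Finset.sum_const_zero, add_zero, Finset.filter_filter]
  simp only [h1, h2]
  rw [Finset.sum_comm]
  refine Finset.sum_congr rfl fun x _ => Finset.sum_congr rfl fun y _ => ?_
  by_cases h : x * y = y * x
  · rw [if_pos h, if_pos h.symm]
  · rw [if_neg h, if_neg (fun h' => h h'.symm)]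

theorem sum_two (h : X.index = 2) : Nat.card (ConjClasses Y) * Nat.card Y =
    ∑ x ∈ Finset.univ.filter (fun y : Y => y ∈ X), (nin X x + 3 * nout X x) := by
  rw [← sum_cent Y, ← Finset.sum_filter_add_sum_filter_not Finset.univ (fun y : Y => y ∈ X)]
  have h1 : ∑ y ∈ Finset.univ.filter (fun y : Y => y ∉ X), cc y =
      2 * ∑ x ∈ Finset.univ.filter (fun y : Y => y ∈ X), nout X x := by
    rw [← swap_sum, Finset.mul_sum]
    refine Finset.sum_congr rfl fun y hy => ?_
    rw [cc_eq X y, ← nin_eq_nout X h (Finset.mem_filter.1 hy).2, two_mul]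
  rw [h1, Finset.mul_sum, ← Finset.sum_add_distrib]
  refine Finset.sum_congr rfl fun x _ => ?_
  rw [cc_eq X x]
  ring

end two

/-- the data for `Y = N(P)/P` in `²F₄(2)` -/
structure D96 {Y : Type u} [Group Y] (X : Subgroup Y) (ω r t : X) (j : Y) : Prop where
  D : D48 X ω r t
  index : X.index = 2
  cen : ∀ y : Y, (ω : Y) * y = y * ω
  jX : j ∉ X
  jj : j * j = r

namespace D96

variable {Y : Type u} [Group Y] {X : Subgroup Y} {ω r t : X} {j : Y} (E : D96 X ω r t j)

include E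

theorem normal : X.Normal := Subgroup.normal_of_index_eq_two E.index

theorem conj_mem (v : Y) (x : X) : v * x * v⁻¹ ∈ X := E.normal.conj_mem x x.2 v

/-- the key point: the elements commuting with an element of order three of `X` are in `X` -/
theorem cent_three {u : X} (hu : orderOf u = 3) {v : Y} (hv : v * u = u * v) : v ∈ X := by
  have := E.D.fin
  have := Fintype.ofFinite X
  have hnorm := E.normal
  by_contra hvX
  -- conjugation by elements of Y on X
  have hcj : ∀ (w : Y), IsConj r (⟨w * r * w⁻¹, E.conj_mem w r⟩ : X) := by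
    intro w
    apply E.D.conj_of
    · rw [← E.D.cr]
      unfold cc
      refine Nat.card_congr ⟨fun a => ⟨⟨w⁻¹ * (a.1 : Y) * w, ?_⟩, ?_⟩, fun a => ⟨⟨w * (a.1 : Y) * w⁻¹, ?_⟩, ?_⟩, ?_, ?_⟩
      · have := E.conj_mem w⁻¹ a.1
        rwa [inv_inv] at this
      · have h1 := congrArg Subtype.val (mem_centralizer_singleton_iff.1 a.2)
        rw [mem_centralizer_singleton_iff]
        apply Subtype.ext
        show w⁻¹ * (a.1 : Y) * w * r = r * (w⁻¹ * (a.1 : Y) * w)
        have h2 : (a.1 : Y) * (w * r * w⁻¹) = w * r * w⁻¹ * a.1 := h1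
        calc w⁻¹ * (a.1 : Y) * w * r = w⁻¹ * ((a.1 : Y) * (w * r * w⁻¹)) * w := by group
          _ = w⁻¹ * (w * r * w⁻¹ * a.1) * w := by rw [h2]
          _ = r * (w⁻¹ * (a.1 : Y) * w) := by group
      · exact E.conj_mem w a.1
      · have h1 := congrArg Subtype.val (mem_centralizer_singleton_iff.1 a.2)
        rw [mem_centralizer_singleton_iff]
        apply Subtype.ext
        show w * (a.1 : Y) * w⁻¹ * (w * r * w⁻¹) = w * r * w⁻¹ * (w * (a.1 : Y) * w⁻¹)
        have h2 : (a.1 : Y) * r = r * a.1 := h1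
        calc w * (a.1 : Y) * w⁻¹ * (w * r * w⁻¹) = w * ((a.1 : Y) * r) * w⁻¹ := by group
          _ = w * (r * a.1) * w⁻¹ := by rw [h2]
          _ = _ := by group
      · intro a
        apply Subtype.ext; apply Subtype.ext
        show w * (w⁻¹ * (a.1 : Y) * w) * w⁻¹ = a.1
        group
      · intro a
        apply Subtype.ext; apply Subtype.ext
        show w⁻¹ * (w * (a.1 : Y) * w⁻¹) * w = a.1
        group
    · apply Subtype.ext
      show w * r * w⁻¹ * (w * r * w⁻¹) = 1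
      have h1 : (r : Y) * r = 1 := congrArg Subtype.val E.D.or
      calc w * r * w⁻¹ * (w * r * w⁻¹) = w * ((r : Y) * r) * w⁻¹ := by group
        _ = 1 := by rw [h1]; group
  -- central elements
  have hWW : ∀ e : X, (e = 1 ∨ e = ω * ω) → ∀ y : Y, (e : Y) * y = y * e := by
    intro e he y
    rcases he with rfl | rfl
    · simp
    · show (ω : Y) * ω * y = y * ((ω : Y) * ω)
      rw [mul_assoc, E.cen y, ← mul_assoc, E.cen y, mul_assoc]
  have hee : ∀ e : X, (e = 1 ∨ e = ω * ω) → (e : Y) * e = 1 := by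
    intro e he
    rcases he with rfl | rfl
    · simp
    · exact congrArg Subtype.val E.D.sgn_sq
  have hWn : ∀ (n : ℕ) (y : Y), (ω : Y) ^ n * y = y * (ω : Y) ^ n := fun n y =>
    (Commute.pow_left (E.cen y) n : Commute ((ω : Y) ^ n) y).eq
  obtain ⟨i, e, he, hi⟩ := E.D.cls_form hu (hcj v)
  have hi' : v * r * v⁻¹ = e * ((u : Y) ^ i * r * ((u : Y) ^ i)⁻¹) := congrArg Subtype.val hi
  have hui : (u : Y) ^ i ∈ X := (u ^ i).2
  set w : Y := ((u : Y) ^ i)⁻¹ * v with hw
  have hwX : w ∉ X := by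
    intro h
    exact hvX ((X.mul_mem_cancel_left (X.inv_mem hui)).1 h)
  have hvu : v * (u : Y) ^ i = (u : Y) ^ i * v := (Commute.pow_right (hv : Commute v (u : Y)) i).eq
  have hwu : w * u = u * w := by
    rw [hw, mul_assoc, hv, ← mul_assoc, ← mul_assoc]
    congr 1
    exact (Commute.inv_left (Commute.pow_left (Commute.refl (u : Y)) i)).eq
  have hwr : w * r * w⁻¹ = e * r := by
    calc w * r * w⁻¹ = ((u : Y) ^ i)⁻¹ * (v * r * v⁻¹) * (u : Y) ^ i := by rw [hw]; group
      _ = ((u : Y) ^ i)⁻¹ * (e * ((u : Y) ^ i * r * ((u : Y) ^ i)⁻¹)) * (u : Y) ^ i := by rw [hi']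
      _ = e * (((u : Y) ^ i)⁻¹ * ((u : Y) ^ i * r * ((u : Y) ^ i)⁻¹) * (u : Y) ^ i) := by
          rw [← mul_assoc ((u : Y) ^ i)⁻¹ (e : Y), ← hWW e he, mul_assoc (e : Y), mul_assoc (e : Y)]
      _ = e * r := by group
  have hwr' : w⁻¹ * r * w = e * r := by
    calc w⁻¹ * r * w = w⁻¹ * ((e : Y) * e * r) * w := by rw [hee e he, one_mul]
      _ = w⁻¹ * ((e : Y) * (e * r)) * w := by rw [mul_assoc (e : Y)]
      _ = w⁻¹ * ((e : Y) * (w * r * w⁻¹)) * w := by rw [hwr]
      _ = (e : Y) * (w⁻¹ * (w * r * w⁻¹) * w) := by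
          rw [← mul_assoc w⁻¹ (e : Y), ← hWW e he, mul_assoc (e : Y), mul_assoc (e : Y)]
      _ = e * r := by group
  clear_value w
  -- `x = j w⁻¹`
  have hxX : j * w⁻¹ ∈ X := by
    rw [Subgroup.mul_mem_iff_of_index_two E.index]
    exact ⟨fun h => absurd h E.jX, fun h => absurd (X.inv_mem_iff.1 h) hwX⟩
  set x : X := ⟨j * w⁻¹, hxX⟩ with hx
  have hjr : j * r * j⁻¹ = r := by rw [← E.jj]; group
  have hxr : x * r * x⁻¹ = e * r := by
    apply Subtype.ext
    show j * w⁻¹ * r * (j * w⁻¹)⁻¹ = e * r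
    calc j * w⁻¹ * r * (j * w⁻¹)⁻¹ = j * (w⁻¹ * r * w) * j⁻¹ := by group
      _ = j * (e * r) * j⁻¹ := by rw [hwr']
      _ = e * (j * r * j⁻¹) := by rw [← mul_assoc j (e : Y), ← hWW e he, mul_assoc (e : Y), mul_assoc (e : Y)]
      _ = e * r := by rw [hjr]
  have hform : ∃ (n : ℕ) (y : X), x = ω ^ n * y ∧ (y = 1 ∨ IsConj r y) := by
    rcases E.D.cc_cases x with h | h | h
    · obtain ⟨n, hn⟩ := E.D.mem48 h
      exact ⟨n, 1, by rw [hn, mul_one], Or.inl rfl⟩
    · exfalso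
      obtain ⟨n, a, ha, hn⟩ := E.D.mem12 h
      refine E.D.not_sgn ha he ?_
      rw [← hxr, hn, mul_inv_rev]
      rw [show a * r * a⁻¹ = ω ^ n * (a * r * a⁻¹) * (ω ^ n)⁻¹ by rw [E.D.cenp n, mul_inv_cancel_right]]
      group
    · obtain ⟨n, y, -, hy, hn⟩ := E.D.mem8 h
      exact ⟨n, y, hn, Or.inr hy⟩
  obtain ⟨n, y, hxy, hy⟩ := hform
  have hyy : y * y = 1 := by
    rcases hy with rfl | hy
    · rw [one_mul]
    · exact E.D.sq_conj hy
  have hwy : ∃ e' : X, (e' = 1 ∨ e' = ω * ω) ∧ w * y * w⁻¹ = e' * y := by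
    rcases hy with rfl | hy
    · exact ⟨1, Or.inl rfl, by simp⟩
    · obtain ⟨k, e₂, he₂, hk⟩ := E.D.cls_form hu hy
      have hk' : (y : Y) = e₂ * ((u : Y) ^ k * r * ((u : Y) ^ k)⁻¹) := congrArg Subtype.val hk
      have hwk : w * (u : Y) ^ k = (u : Y) ^ k * w := (Commute.pow_right (hwu : Commute w (u : Y)) k).eq
      have hwk' : ((u : Y) ^ k)⁻¹ * w⁻¹ = w⁻¹ * ((u : Y) ^ k)⁻¹ := by
        rw [← mul_inv_rev, hwk, mul_inv_rev]
      refine ⟨e, he, ?_⟩
      rw [hk']
      calc w * (e₂ * ((u : Y) ^ k * r * ((u : Y) ^ k)⁻¹)) * w⁻¹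
          = e₂ * (w * ((u : Y) ^ k * r * ((u : Y) ^ k)⁻¹) * w⁻¹) := by
            rw [← mul_assoc w (e₂ : Y), ← hWW e₂ he₂, mul_assoc (e₂ : Y), mul_assoc (e₂ : Y)]
        _ = e₂ * ((w * (u : Y) ^ k) * r * (((u : Y) ^ k)⁻¹ * w⁻¹)) := by simp only [mul_assoc]
        _ = e₂ * ((u : Y) ^ k * (w * r * w⁻¹) * ((u : Y) ^ k)⁻¹) := by rw [hwk, hwk']; simp only [mul_assoc]
        _ = e₂ * ((u : Y) ^ k * (e * r) * ((u : Y) ^ k)⁻¹) := by rw [hwr]
        _ = e₂ * (e * ((u : Y) ^ k * r * ((u : Y) ^ k)⁻¹)) := by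
            rw [← mul_assoc ((u : Y) ^ k) (e : Y), ← hWW e he, mul_assoc (e : Y), mul_assoc (e : Y)]
        _ = e * (e₂ * ((u : Y) ^ k * r * ((u : Y) ^ k)⁻¹)) := by
            rw [← mul_assoc (e₂ : Y) (e : Y), hWW e₂ he₂ (e : Y), mul_assoc (e : Y)]
  obtain ⟨e', he', hwy⟩ := hwy
  have hxY : j * w⁻¹ = (ω : Y) ^ n * y := congrArg Subtype.val hxy
  have hj : j = (ω : Y) ^ n * y * w := by rw [← hxY]; group
  have hyyY : (y : Y) * y = 1 := congrArg Subtype.val hyy
  have hr : (r : Y) = (ω : Y) ^ n * ((ω : Y) ^ n * (e' * (w * w))) := by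
    rw [← E.jj]
    nth_rw 1 [hj]
    rw [hj]
    calc (ω : Y) ^ n * y * w * ((ω : Y) ^ n * y * w)
        = (ω : Y) ^ n * (y * w * (ω : Y) ^ n) * (y * w) := by simp only [mul_assoc]
      _ = (ω : Y) ^ n * ((ω : Y) ^ n * (y * w)) * (y * w) := by rw [← hWn]
      _ = (ω : Y) ^ n * ((ω : Y) ^ n * (y * (w * y * w⁻¹) * (w * w))) := by simp only [mul_assoc, inv_mul_cancel_left]
      _ = (ω : Y) ^ n * ((ω : Y) ^ n * (y * (e' * y) * (w * w))) := by rw [hwy]
      _ = (ω : Y) ^ n * ((ω : Y) ^ n * (e' * (y * y) * (w * w))) := by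
          rw [← mul_assoc (y : Y) (e' : Y), ← hWW e' he', mul_assoc (e' : Y) (y : Y)]
      _ = _ := by rw [hyyY, mul_one]
  refine E.D.not_comm hu (IsConj.refl r) ?_
  apply Subtype.ext
  show (u : Y) * r = r * u
  rw [hr]
  have hww : (u : Y) * (w * w) = w * w * u := by
    rw [mul_assoc w w, hwu, ← mul_assoc w, hwu, mul_assoc]
  calc (u : Y) * ((ω : Y) ^ n * ((ω : Y) ^ n * (e' * (w * w))))
      = (ω : Y) ^ n * ((ω : Y) ^ n * (e' * ((u : Y) * (w * w)))) := by
        rw [← mul_assoc, ← hWn, mul_assoc, ← mul_assoc (u : Y), ← hWn, mul_assoc, ← mul_assoc (u : Y), ← hWW e' he',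
          mul_assoc (e' : Y)]
    _ = (ω : Y) ^ n * ((ω : Y) ^ n * (e' * (w * w * u))) := by rw [hww]
    _ = _ := by simp only [mul_assoc]

theorem nout12 {x : X} (h : cc x = 12) [Fintype Y] : nout X (x : Y) = 0 := by
  have := E.D.fin
  have := Fintype.ofFinite X
  classical
  obtain ⟨n, u, hu, rfl⟩ := E.D.mem12 h
  unfold nout
  rw [Finset.card_eq_zero, Finset.filter_eq_empty_iff]
  intro y _ hy
  apply hy.1
  refine E.cent_three hu ?_
  have h1 := hy.2
  have hWn : ∀ (n : ℕ) (y : Y), (ω : Y) ^ n * y = y * (ω : Y) ^ n := fun n y =>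
    (Commute.pow_left (E.cen y) n : Commute ((ω : Y) ^ n) y).eq
  have h2 : y * ((ω : Y) ^ n * u) = (ω : Y) ^ n * u * y := h1
  rw [← mul_assoc, ← hWn, mul_assoc, mul_assoc] at h2
  exact mul_left_cancel h2

/-- if some element outside `X` commutes with `y`, there are as many as in `X` -/
theorem nout_of {y v : Y} (hv : v ∉ X) (h : v * y = y * v) [Fintype Y] : nout X y = nin X y := by
  classical
  unfold nout nin
  symm
  apply Finset.card_bij (fun x _ => v * x)
  · intro x hx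
    have hx' := (Finset.mem_filter.1 hx).2
    rw [Finset.mem_filter]
    refine ⟨Finset.mem_univ _, fun h1 => hv ((X.mul_mem_cancel_right hx'.1).1 h1), ?_⟩
    rw [mul_assoc, hx'.2, ← mul_assoc, h, mul_assoc]
  · intro a _ b _ h1
    exact mul_left_cancel h1
  · intro b hb
    have hb' := (Finset.mem_filter.1 hb).2
    refine ⟨v⁻¹ * b, ?_, by group⟩
    rw [Finset.mem_filter]
    refine ⟨Finset.mem_univ _, ?_, ?_⟩
    · rw [Subgroup.mul_mem_iff_of_index_two E.index]
      exact ⟨fun h1 => absurd (X.inv_mem_iff.1 h1) hv, fun h1 => absurd h1 hb'.1⟩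
    · have h3 : v⁻¹ * y = y * v⁻¹ := by
        have := congrArg (fun a => v⁻¹ * a * v⁻¹) h
        simpa [mul_assoc] using this.symm
      rw [mul_assoc, hb'.2, ← mul_assoc, h3, mul_assoc]

theorem nout48 {x : X} (h : cc x = 48) [Fintype Y] : nout X (x : Y) = 48 := by
  have := E.D.fin
  have := Fintype.ofFinite X
  obtain ⟨n, rfl⟩ := E.D.mem48 h
  have hWn : ∀ (n : ℕ) (y : Y), (ω : Y) ^ n * y = y * (ω : Y) ^ n := fun n y =>
    (Commute.pow_left (E.cen y) n : Commute ((ω : Y) ^ n) y).eq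
  rw [E.nout_of E.jX (y := ((ω ^ n : X) : Y)) (hWn n j).symm, ← cc_sub, h]

theorem nout8 {x : X} (h : cc x = 8) [Fintype Y] : nout X (x : Y) = 8 := by
  have := E.D.fin
  have := Fintype.ofFinite X
  obtain ⟨n, y, -, hy, rfl⟩ := E.D.mem8 h
  obtain ⟨g, rfl⟩ := isConj_iff.1 hy
  have hWn : ∀ (n : ℕ) (y : Y), (ω : Y) ^ n * y = y * (ω : Y) ^ n := fun n y =>
    (Commute.pow_left (E.cen y) n : Commute ((ω : Y) ^ n) y).eq
  have hv : (g : Y) * j * (g : Y)⁻¹ ∉ X := by
    intro h1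
    have h2 := E.normal.conj_mem _ h1 (g : Y)⁻¹
    apply E.jX
    have : (g : Y)⁻¹ * ((g : Y) * j * (g : Y)⁻¹) * (g : Y)⁻¹⁻¹ = j := by group
    rwa [this] at h2
  rw [E.nout_of hv, ← cc_sub, h]
  show (g : Y) * j * (g : Y)⁻¹ * ((ω : Y) ^ n * ((g : Y) * r * (g : Y)⁻¹)) =
    (ω : Y) ^ n * ((g : Y) * r * (g : Y)⁻¹) * ((g : Y) * j * (g : Y)⁻¹)
  rw [← mul_assoc _ ((ω : Y) ^ n), ← hWn, mul_assoc ((ω : Y) ^ n), mul_assoc ((ω : Y) ^ n), ← E.jj]
  congr 1
  group

/-- **`k(Y) = 16`** -/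
theorem card_classes : Nat.card (ConjClasses Y) = 16 := by
  classical
  have hf := E.D.fin
  have hc : Nat.card Y = 96 := by
    have := X.card_mul_index
    rw [E.D.card, E.index] at this
    exact this.symm
  have : Finite Y := Nat.finite_of_card_ne_zero (by rw [hc]; norm_num)
  have := Fintype.ofFinite Y
  have := Fintype.ofFinite X
  have h1 := sum_two X E.index
  have h2 : ∑ x ∈ Finset.univ.filter (fun y : Y => y ∈ X), (nin X x + 3 * nout X x) =
      ∑ x : X, (fun c : ℕ => c + 3 * (if c = 12 then 0 else c)) (cc x) := by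
    trans ∑ x : X, (nin X (x : Y) + 3 * nout X (x : Y))
    · exact Finset.sum_subtype _ (by simp) _
    · refine Finset.sum_congr rfl fun x _ => ?_
      rw [← cc_sub]
      show cc x + 3 * nout X (x : Y) = cc x + 3 * (if cc x = 12 then 0 else cc x)
      rcases E.D.cc_cases x with h | h | h
      · rw [E.nout48 h, h]; rfl
      · rw [E.nout12 h, h]; rfl
      · rw [E.nout8 h, h]; rfl
  rw [h2, E.D.sum_eq (fun c : ℕ => c + 3 * (if c = 12 then 0 else c)), hc] at h1
  have h3 : Nat.card (ConjClasses Y) * 96 = 1536 := h1.trans (by decide)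
  omega

end D96

end Cfsg.Agent.H670.TIx
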